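import Mathlib
import Groth.Prelude
import Groth.Agent.Lib.Helper7.FibSupp.Main
import Groth.Agent.Lib.Helper7.ImpDesc.Stage
import Groth.Agent.Lib.Helper2.Synt.FieldExtDim

/-!
# helper7: base change of a one-step devissage

The ring form of a one-step devissage is stable under an arbitrary base change `R → R'`.
-/

set_option linter.style.haveILetI false
set_option linter.unusedVariables false
set_option linter.unusedSectionVars false
set_option autoImplicit false
set_option backward.isDefEq.respectTransparency.types false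
set_option synthInstance.maxHeartbeats 400000
set_option maxHeartbeats 1600000

universe u

open TensorProduct

namespace Groth.Agent.Helper7.OneStep

attribute [local instance] Algebra.TensorProduct.rightAlgebra

/-- the dimension of the support of a base changed finite module -/
theorem supportDim_baseChange_eq {B F : Type u} [CommRing B] [CommRing F] [Algebra B F]
    (N : Type u) [AddCommGroup N] [Module B N] [Module.Finite B N] :
    Module.supportDim F (F ⊗[B] N) =
      ringKrullDim (F ⧸ (Module.annihilator B N).map (algebraMap B F)) := by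
  have hs : Module.support F (F ⊗[B] N) =
      PrimeSpectrum.zeroLocus (((Module.annihilator B N).map (algebraMap B F) : Ideal F) : Set F) := by
    ext x
    rw [Groth.Agent.Helper7.FibSupp.mem_support_baseChange_iff, PrimeSpectrum.mem_zeroLocus,
      SetLike.coe_subset_coe, Ideal.map_le_iff_le_comap]
  rw [Module.supportDim, hs, ringKrullDim_quotient]

/-- field extension does not change the dimension of a quotient of a finite type algebra -/
theorem ringKrullDim_tensor_quot (k K F : Type u) [Field k] [Field K] [Algebra k K] [CommRing F]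
    [Algebra k F] [Algebra.FiniteType k F] (J : Ideal F) :
    ringKrullDim ((K ⊗[k] F) ⧸
      J.map (Algebra.TensorProduct.includeRight (R := k) (A := K) (B := F))) =
      ringKrullDim (F ⧸ J) := by
  rw [← Groth.Agent.Helper2.Synt.ringKrullDim_tensor_field_eq k K (F ⧸ J)]
  exact (ringKrullDim_eq_of_ringEquiv
    (Algebra.TensorProduct.tensorQuotientEquiv (R := k) k F K J).toRingEquiv).symm

/-- the comparison of the two fibre rings -/
theorem exists_phi (R S R' S' : Type u) [CommRing R] [CommRing S] [CommRing R'] [CommRing S']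
    [Algebra R S] [Algebra R R'] [Algebra R' S'] [Algebra S S'] [Algebra R S']
    [IsScalarTower R R' S'] [IsScalarTower R S S'] [Algebra.IsPushout R R' S S']
    (k K : Type u) [CommRing k] [CommRing K] [Algebra R k] [Algebra R' K] [Algebra R K]
    [IsScalarTower R R' K] [Algebra k K] [IsScalarTower R k K] :
    ∃ φ : K ⊗[R'] S' ≃+* K ⊗[k] (k ⊗[R] S),
      ∀ s : S, φ ((1 : K) ⊗ₜ[R'] algebraMap S S' s) = (1 : K) ⊗ₜ[k] ((1 : k) ⊗ₜ[R] s) := by
  let e1 : S' ≃ₐ[R'] R' ⊗[R] S := (Algebra.IsPushout.equiv R R' S S').symm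
  let e2 : K ⊗[R'] S' ≃ₐ[K] K ⊗[R'] (R' ⊗[R] S) :=
    Algebra.TensorProduct.congr (AlgEquiv.refl : K ≃ₐ[K] K) e1
  let e3 : K ⊗[R'] (R' ⊗[R] S) ≃ₐ[K] K ⊗[R] S :=
    Algebra.TensorProduct.cancelBaseChange R R' K K S
  let e4 : K ⊗[k] (k ⊗[R] S) ≃ₐ[K] K ⊗[R] S :=
    Algebra.TensorProduct.cancelBaseChange R k K K S
  refine ⟨(e2.trans (e3.trans e4.symm)).toRingEquiv, fun s => ?_⟩
  have h1 : e1 (algebraMap S S' s) = (1 : R') ⊗ₜ[R] s :=
    Algebra.IsPushout.equiv_symm_algebraMap_right R R' S S' s
  have h2 : e2 ((1 : K) ⊗ₜ[R'] algebraMap S S' s) = (1 : K) ⊗ₜ[R'] ((1 : R') ⊗ₜ[R] s) := by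
    rw [← h1]
    rfl
  have h3 : e3 ((1 : K) ⊗ₜ[R'] ((1 : R') ⊗ₜ[R] s)) = (1 : K) ⊗ₜ[R] s := by
    rw [Algebra.TensorProduct.cancelBaseChange_tmul, one_smul]
  have h4 : e4.symm ((1 : K) ⊗ₜ[R] s) = (1 : K) ⊗ₜ[k] ((1 : k) ⊗ₜ[R] s) :=
    Algebra.TensorProduct.cancelBaseChange_symm_tmul R k K K S (1 : K) s
  show e4.symm (e3 (e2 _)) = _
  rw [h2, h3, h4]

/-- the core comparison, with generic fibre rings -/
theorem supportDim_core (S S' : Type u) [CommRing S] [CommRing S'] [Algebra S S']
    (k K : Type u) [Field k] [Field K] [Algebra k K]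
    (F F' : Type u) [CommRing F] [CommRing F'] [Algebra k F] [Algebra.FiniteType k F]
    [Algebra S F] [Algebra S' F'] [Algebra S F'] [IsScalarTower S S' F']
    (φ : F' ≃+* K ⊗[k] F)
    (hφ : ∀ s : S, φ (algebraMap S F' s) = (1 : K) ⊗ₜ[k] algebraMap S F s)
    (N : Type u) [AddCommGroup N] [Module S N] [Module.Finite S N]
    (N' : Type u) [AddCommGroup N'] [Module S' N'] [Module S N'] [IsScalarTower S S' N']
    (f : N →ₗ[S] N') (hf : IsBaseChange S' f) :
    Module.supportDim F' (F' ⊗[S'] N') = Module.supportDim F (F ⊗[S] N) := by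
  have e : F' ⊗[S'] N' ≃ₗ[F'] F' ⊗[S] N :=
    (TensorProduct.AlgebraTensorModule.congr (LinearEquiv.refl F' F') hf.equiv.symm) ≪≫ₗ
      TensorProduct.AlgebraTensorModule.cancelBaseChange S S' F' F' N
  rw [Module.supportDim_eq_of_equiv e, supportDim_baseChange_eq (B := S) (F := F') N,
    supportDim_baseChange_eq (B := S) (F := F) N]
  obtain ⟨I, hI⟩ : ∃ I : Ideal S, I = Module.annihilator S N := ⟨_, rfl⟩
  rw [← hI]
  have hmap : (I.map (algebraMap S F)).map
      (Algebra.TensorProduct.includeRight (R := k) (A := K) (B := F)) =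
      (I.map (algebraMap S F')).map (φ : F' →+* K ⊗[k] F) := by
    rw [← Ideal.map_coe (Algebra.TensorProduct.includeRight (R := k) (A := K) (B := F)),
      Ideal.map_map, Ideal.map_map]
    congr 1
    ext s
    simp only [RingHom.comp_apply, RingHom.coe_coe, Algebra.TensorProduct.includeRight_apply]
    exact (hφ s).symm
  rw [ringKrullDim_eq_of_ringEquiv (Ideal.quotientEquiv _ _ φ hmap), ringKrullDim_tensor_quot]

/-- the dimension of the support of the fibre module is invariant under base change -/
theorem supportDim_fiber (R S : Type u) [CommRing R] [CommRing S] [Algebra R S]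
    [Algebra.FiniteType R S]
    (N : Type u) [AddCommGroup N] [Module S N] [Module R N] [IsScalarTower R S N]
    [Module.Finite S N] (p : Ideal R) [p.IsPrime]
    (R' : Type u) [CommRing R'] [Algebra R R'] (p' : Ideal R') [p'.IsPrime] [hp : p'.LiesOver p]
    (S' : Type u) [CommRing S'] [Algebra R' S'] [Algebra R S'] [Algebra S S']
    [IsScalarTower R R' S'] [IsScalarTower R S S'] [Algebra.IsPushout R R' S S']
    (N' : Type u) [AddCommGroup N'] [Module S' N'] [Module R' N'] [IsScalarTower R' S' N']
    [Module S N'] [IsScalarTower S S' N'] (f : N →ₗ[S] N') (hf : IsBaseChange S' f) :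
    Module.supportDim (p'.Fiber S') (FlatCA.fiberMod p' S' N') =
      Module.supportDim (p.Fiber S) (FlatCA.fiberMod p S N) := by
  letI aK : Algebra p.ResidueField p'.ResidueField :=
    (Ideal.ResidueField.mapₐ p p' (Algebra.ofId R R') hp.over).toRingHom.toAlgebra
  haveI tK : IsScalarTower R p.ResidueField p'.ResidueField :=
    IsScalarTower.of_algebraMap_eq fun r =>
      ((Ideal.ResidueField.mapₐ p p' (Algebra.ofId R R') hp.over).commutes r).symm
  obtain ⟨φ, hφ⟩ := exists_phi R S R' S' p.ResidueField p'.ResidueField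
  letI aSF' : Algebra S (p'.Fiber S') :=
    ((algebraMap S' (p'.Fiber S')).comp (algebraMap S S')).toAlgebra
  haveI tSF' : IsScalarTower S S' (p'.Fiber S') := IsScalarTower.of_algebraMap_eq fun s => rfl
  haveI : Algebra.FiniteType p.ResidueField (p.Fiber S) := inferInstance
  exact supportDim_core S S' p.ResidueField p'.ResidueField (p.Fiber S) (p'.Fiber S') φ
    (fun s => hφ s) N N' f hf

theorem smoothRelDim_of_isPushout (n : ℕ) (A B A' B' : Type u) [CommRing A] [CommRing B]
    [CommRing A'] [CommRing B'] [Algebra A B] [Algebra A A'] [Algebra B B'] [Algebra A' B']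
    [Algebra A B'] [IsScalarTower A B B'] [IsScalarTower A A' B'] [Algebra.IsPushout A B A' B']
    (h : FlatCA.SmoothRelDim n A B) : FlatCA.SmoothRelDim n A' B' := by
  have hpush := CommRingCat.isPushout_of_isPushout A B A' B'
  have hpull := AlgebraicGeometry.isPullback_SpecMap_of_isPushout _ _ _ _ hpush
  haveI := AlgebraicGeometry.smoothOfRelativeDimension_isStableUnderBaseChange n
  exact CategoryTheory.MorphismProperty.of_isPullback
    (P := @AlgebraicGeometry.SmoothOfRelativeDimension n) hpull h

theorem geomIrredFibres_of_isPushout (A B A' B' : Type u) [CommRing A] [CommRing B]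
    [CommRing A'] [CommRing B'] [Algebra A B] [Algebra A A'] [Algebra B B'] [Algebra A' B']
    [Algebra A B'] [IsScalarTower A B B'] [IsScalarTower A A' B'] [Algebra.IsPushout A B A' B']
    (h : FlatCA.GeomIrredFibres A B) : FlatCA.GeomIrredFibres A' B' := by
  have hpush := CommRingCat.isPushout_of_isPushout A B A' B'
  have hpull := AlgebraicGeometry.isPullback_SpecMap_of_isPushout _ _ _ _ hpush
  exact CategoryTheory.MorphismProperty.of_isPullback
    (P := @AlgebraicGeometry.GeometricallyIrreducible) hpull h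

/-- **Base change of a one-step devissage.** -/
theorem main
    (R S : Type u) [CommRing R] [CommRing S] [Algebra R S] [Algebra.FiniteType R S]
    (N : Type u) [AddCommGroup N] [Module S N] [Module R N] [IsScalarTower R S N] [Module.Finite S N]
    (p : Ideal R) [p.IsPrime]
    (C D G : Type u) [CommRing C] [CommRing D] [Algebra S C] [Algebra R C] [IsScalarTower R S C]
    [Algebra R D] [Algebra D C] [IsScalarTower R D C] [AddCommGroup G] [Module C G] [Module S G]
    [IsScalarTower S C G] (n : ℕ)
    (h : FlatCA.IsOneStepDevissage R S N p C D G n)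
    (R' : Type u) [CommRing R'] [Algebra R R'] (p' : Ideal R') [p'.IsPrime] [p'.LiesOver p]
    (S' C' D' : Type u) [CommRing S'] [CommRing C'] [CommRing D']
    [Algebra R' S'] [Algebra R S'] [Algebra S S'] [IsScalarTower R R' S'] [IsScalarTower R S S']
    [Algebra.IsPushout R R' S S']
    [Algebra R' C'] [Algebra R C'] [Algebra C C'] [IsScalarTower R R' C'] [IsScalarTower R C C']
    [Algebra.IsPushout R R' C C']
    [Algebra R' D'] [Algebra R D'] [Algebra D D'] [IsScalarTower R R' D'] [IsScalarTower R D D']
    [Algebra.IsPushout R R' D D']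
    [Algebra S' C'] [IsScalarTower R' S' C'] [Algebra S C'] [IsScalarTower S S' C']
    [IsScalarTower S C C']
    [Algebra D' C'] [IsScalarTower R' D' C'] [Algebra D C'] [IsScalarTower D D' C']
    [IsScalarTower D C C']
    (N' : Type u) [AddCommGroup N'] [Module S' N'] [Module R' N'] [IsScalarTower R' S' N']
    [Module S N'] [IsScalarTower S S' N'] (f : N →ₗ[S] N') (hf : IsBaseChange S' f)
    (G' : Type u) [AddCommGroup G'] [Module C' G'] [Module S' G'] [IsScalarTower S' C' G']
    [Module C G'] [IsScalarTower C C' G'] (g : G →ₗ[C] G') (hg : IsBaseChange C' g) :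
    FlatCA.IsOneStepDevissage R' S' N' p' C' D' G' n := by
  obtain ⟨⟨e⟩, hsurj, hfp, hfinDC, hfinCG, hsm, hgi, hdim⟩ := h
  haveI tS : IsScalarTower R S' C' := IsScalarTower.of_algebraMap_eq fun x => by
    rw [IsScalarTower.algebraMap_apply R R' C', IsScalarTower.algebraMap_apply R' S' C',
      ← IsScalarTower.algebraMap_apply R R' S']
  haveI tD : IsScalarTower R D' C' := IsScalarTower.of_algebraMap_eq fun x => by
    rw [IsScalarTower.algebraMap_apply R R' C', IsScalarTower.algebraMap_apply R' D' C',
      ← IsScalarTower.algebraMap_apply R R' D']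
  haveI pS : Algebra.IsPushout R S R' S' := Algebra.IsPushout.symm inferInstance
  haveI pC : Algebra.IsPushout R C R' C' := Algebra.IsPushout.symm inferInstance
  haveI pD : Algebra.IsPushout R D R' D' := Algebra.IsPushout.symm inferInstance
  haveI pSC : Algebra.IsPushout S C S' C' :=
    (Algebra.IsPushout.comp_iff R S R' S' (T := C) (T' := C')).mp pC
  haveI pDC : Algebra.IsPushout D C D' C' :=
    (Algebra.IsPushout.comp_iff R D R' D' (T := C) (T' := C')).mp pC
  haveI pSC' : Algebra.IsPushout S S' C C' := Algebra.IsPushout.symm pSC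
  haveI pDC' : Algebra.IsPushout D D' C C' := Algebra.IsPushout.symm pDC
  refine ⟨?_, ?_, ?_, ?_, ?_, ?_, ?_, ?_⟩
  · letI mSG' : Module S G' := Module.compHom G' (algebraMap S S')
    haveI t1 : IsScalarTower S S' G' := ⟨fun s s' x => by
      change (s • s') • x = algebraMap S S' s • (s' • x)
      rw [Algebra.smul_def, mul_smul]⟩
    haveI t2 : IsScalarTower S C G' := ⟨fun s c x => by
      change (s • c) • x = algebraMap S S' s • (c • x)
      rw [Algebra.smul_def, mul_smul, ← algebraMap_smul C' (algebraMap S C s) (c • x),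
        ← IsScalarTower.algebraMap_apply S C C', IsScalarTower.algebraMap_apply S S' C',
        algebraMap_smul]⟩
    have hgS : IsBaseChange S' (g.restrictScalars S) :=
      Groth.Agent.Helper7.ImpDesc.isBaseChange_restrict G S' C' G' g hg
    exact ⟨hf.equiv.symm ≪≫ₗ
      (TensorProduct.AlgebraTensorModule.congr (LinearEquiv.refl S' S') e) ≪≫ₗ hgS.equiv⟩
  · intro c'
    have hbc : IsBaseChange S' (IsScalarTower.toAlgHom S C C').toLinearMap := pSC'.out
    refine hbc.inductionOn c' (fun c' => ∃ s', algebraMap S' C' s' = c') ⟨0, map_zero _⟩ ?_ ?_ ?_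
    · intro c
      obtain ⟨s, rfl⟩ := hsurj c
      refine ⟨algebraMap S S' s, ?_⟩
      change _ = algebraMap C C' (algebraMap S C s)
      rw [← IsScalarTower.algebraMap_apply S S' C', ← IsScalarTower.algebraMap_apply S C C']
    · rintro s' x ⟨t, rfl⟩
      exact ⟨s' * t, by rw [map_mul, Algebra.smul_def]⟩
    · rintro x y ⟨a, rfl⟩ ⟨b, rfl⟩
      exact ⟨a + b, map_add _ _ _⟩
  · haveI := hfp
    exact Algebra.FinitePresentation.equiv (Algebra.IsPushout.equiv S S' C C')
  · haveI := hfinDC
    exact Module.Finite.equiv (Algebra.IsPushout.equiv D D' C C').toLinearEquiv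
  · haveI := hfinCG
    exact Module.Finite.equiv hg.equiv
  · exact smoothRelDim_of_isPushout n R D R' D' hsm
  · exact geomIrredFibres_of_isPushout R D R' D' hgi
  · rw [← hdim]
    exact supportDim_fiber R S N p R' p' S' N' f hf

end Groth.Agent.Helper7.OneStep
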