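import Mathlib
import Groth.Prelude
import Groth.Agent.Lib.Helper7.OneStep.BC
import Groth.Agent.Lib.Helper5.SmFib.LocalDim

/-!
# helper7: base change of a one-step devissage at a point

Base change along `R → R'` with `κ(p) → κ(p')` bijective.
-/

set_option linter.style.haveILetI false
set_option linter.unusedVariables false
set_option linter.unusedSectionVars false
set_option autoImplicit false
set_option backward.isDefEq.respectTransparency.types false
set_option synthInstance.maxHeartbeats 400000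
set_option maxHeartbeats 1600000

universe u

open TensorProduct

namespace Groth.Agent.Helper7.OneStep

attribute [local instance] Algebra.TensorProduct.rightAlgebra

/-- elements of a residue field are fractions -/
theorem exists_num_den {R : Type u} [CommRing R] (I : Ideal R) [I.IsPrime] (v : I.ResidueField) :
    ∃ a s : R, s ∉ I ∧ algebraMap R I.ResidueField s * v = algebraMap R I.ResidueField a := by
  obtain ⟨w, rfl⟩ := IsLocalRing.residue_surjective v
  obtain ⟨a, ⟨s, hs⟩, rfl⟩ := IsLocalization.exists_mk'_eq I.primeCompl w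
  refine ⟨a, s, hs, ?_⟩
  have h := IsLocalization.mk'_spec' (Localization.AtPrime I) a (⟨s, hs⟩ : I.primeCompl)
  have h2 := congrArg (IsLocalRing.residue (Localization.AtPrime I)) h
  rw [map_mul] at h2
  exact h2

/-- lifting elements modulo `p'` when the residue field map is surjective -/
theorem exists_lift_of_surjective {R R' : Type u} [CommRing R] [CommRing R'] [Algebra R R']
    (p : Ideal R) [p.IsPrime] (p' : Ideal R') [p'.IsPrime] [hp : p'.LiesOver p]
    (hκ : Function.Surjective (Ideal.ResidueField.mapₐ p p' (Algebra.ofId R R') hp.over))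
    (r' : R') :
    ∃ a c : R, c ∉ p ∧ algebraMap R R' c * r' - algebraMap R R' a ∈ p' := by
  obtain ⟨v, hv⟩ := hκ (algebraMap R' p'.ResidueField r')
  obtain ⟨a, c, hc, hac⟩ := exists_num_den p v
  refine ⟨a, c, hc, ?_⟩
  have h1 := congrArg (Ideal.ResidueField.mapₐ p p' (Algebra.ofId R R') hp.over) hac
  rw [map_mul, AlgHom.commutes, AlgHom.commutes, hv,
    IsScalarTower.algebraMap_apply R R' p'.ResidueField,
    IsScalarTower.algebraMap_apply R R' p'.ResidueField a] at h1
  rw [← Ideal.algebraMap_residueField_eq_zero, map_sub, map_mul, sub_eq_zero]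
  exact h1

section Push

variable {R R' T T' : Type u} [CommRing R] [CommRing R'] [CommRing T] [CommRing T']
  [Algebra R R'] [Algebra R T] [Algebra R' T'] [Algebra T T'] [Algebra R T']
  [IsScalarTower R R' T'] [IsScalarTower R T T'] [Algebra.IsPushout R R' T T']
  (p : Ideal R) [p.IsPrime] (p' : Ideal R') [p'.IsPrime] [hp : p'.LiesOver p]
  (hκ : Function.Surjective (Ideal.ResidueField.mapₐ p p' (Algebra.ofId R R') hp.over))

include hκ

/-- elements of the pushout are, modulo `p'` and up to a unit of the fibre, images of `T` -/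
theorem exists_approx (x : T') :
    ∃ (b : R) (t : T), b ∉ p ∧
      algebraMap R T' b * x - algebraMap T T' t ∈ p'.map (algebraMap R' T') := by
  have hbc : IsBaseChange R' (IsScalarTower.toAlgHom R T T').toLinearMap := Algebra.IsPushout.out
  have h1 : (1 : R) ∉ p := fun h => (Ideal.IsPrime.ne_top inferInstance) ((Ideal.eq_top_iff_one p).mpr h)
  refine hbc.inductionOn x (fun x => ∃ (b : R) (t : T), b ∉ p ∧
      algebraMap R T' b * x - algebraMap T T' t ∈ p'.map (algebraMap R' T')) ?_ ?_ ?_ ?_
  · exact ⟨1, 0, h1, by simp⟩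
  · intro t
    refine ⟨1, t, h1, ?_⟩
    have e : (IsScalarTower.toAlgHom R T T').toLinearMap t = algebraMap T T' t := rfl
    rw [e, map_one, one_mul, sub_self]
    exact Ideal.zero_mem _
  · rintro r' x ⟨b, t, hb, hbt⟩
    obtain ⟨a, c, hc, hac⟩ := exists_lift_of_surjective p p' hκ r'
    refine ⟨c * b, a • t, fun h => (Ideal.IsPrime.mem_or_mem inferInstance h).elim hc hb, ?_⟩
    have e : algebraMap R T' (c * b) * (r' • x) - algebraMap T T' (a • t) =
        algebraMap R' T' (algebraMap R R' c * r' - algebraMap R R' a) * (algebraMap R T' b * x) +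
          algebraMap R T' a * (algebraMap R T' b * x - algebraMap T T' t) := by
      simp only [Algebra.smul_def, map_mul, map_sub, ← IsScalarTower.algebraMap_apply R R' T',
        ← IsScalarTower.algebraMap_apply R T T']
      ring
    rw [e]
    exact Ideal.add_mem _ (Ideal.mul_mem_right _ _ (Ideal.mem_map_of_mem _ hac))
      (Ideal.mul_mem_left _ _ hbt)
  · rintro x y ⟨b₁, t₁, hb₁, h₁⟩ ⟨b₂, t₂, hb₂, h₂⟩
    refine ⟨b₁ * b₂, b₂ • t₁ + b₁ • t₂,
      fun h => (Ideal.IsPrime.mem_or_mem inferInstance h).elim hb₁ hb₂, ?_⟩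
    have e : algebraMap R T' (b₁ * b₂) * (x + y) - algebraMap T T' (b₂ • t₁ + b₁ • t₂) =
        algebraMap R T' b₂ * (algebraMap R T' b₁ * x - algebraMap T T' t₁) +
          algebraMap R T' b₁ * (algebraMap R T' b₂ * y - algebraMap T T' t₂) := by
      simp only [Algebra.smul_def, map_mul, map_add, ← IsScalarTower.algebraMap_apply R T T']
      ring
    rw [e]
    exact Ideal.add_mem _ (Ideal.mul_mem_left _ _ h₁) (Ideal.mul_mem_left _ _ h₂)

theorem not_mem_of_not_mem (Q : Ideal T') (hQ : Q.comap (algebraMap R' T') = p') (b : R)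
    (hb : b ∉ p) : algebraMap R T' b ∉ Q := by
  intro hbQ
  apply hb
  rw [hp.over, Ideal.under_def, Ideal.mem_comap, ← hQ, Ideal.mem_comap,
    ← IsScalarTower.algebraMap_apply]
  exact hbQ

theorem prime_le (Q₁ Q₂ : Ideal T') [Q₁.IsPrime] [Q₂.IsPrime]
    (h₁ : Q₁.comap (algebraMap R' T') = p') (h₂ : Q₂.comap (algebraMap R' T') = p')
    (h : Q₁.comap (algebraMap T T') ≤ Q₂.comap (algebraMap T T')) : Q₁ ≤ Q₂ := by
  intro x hx
  obtain ⟨b, t, hb, hbt⟩ := exists_approx p p' hκ (T := T) x
  have hp1 : p'.map (algebraMap R' T') ≤ Q₁ := by rw [Ideal.map_le_iff_le_comap, h₁]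
  have hp2 : p'.map (algebraMap R' T') ≤ Q₂ := by rw [Ideal.map_le_iff_le_comap, h₂]
  have ht1 : algebraMap T T' t ∈ Q₁ := by
    have h3 := Q₁.sub_mem (Q₁.mul_mem_left (algebraMap R T' b) hx) (hp1 hbt)
    rwa [sub_sub_cancel] at h3
  have ht2 : algebraMap T T' t ∈ Q₂ := h ht1
  have hbx : algebraMap R T' b * x ∈ Q₂ := by
    have h3 := Q₂.add_mem (hp2 hbt) ht2
    rwa [sub_add_cancel] at h3
  rcases Ideal.IsPrime.mem_or_mem inferInstance hbx with hb2 | hx2
  · exact absurd hb2 (not_mem_of_not_mem p p' hκ Q₂ h₂ b hb)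
  · exact hx2

/-- a prime of the pushout is determined by its contractions -/
theorem prime_unique (Q₁ Q₂ : Ideal T') [Q₁.IsPrime] [Q₂.IsPrime]
    (h₁ : Q₁.comap (algebraMap R' T') = p') (h₂ : Q₂.comap (algebraMap R' T') = p')
    (h : Q₁.comap (algebraMap T T') = Q₂.comap (algebraMap T T')) : Q₁ = Q₂ :=
  le_antisymm (prime_le p p' hκ Q₁ Q₂ h₁ h₂ h.le) (prime_le p p' hκ Q₂ Q₁ h₂ h₁ h.ge)

/-- the residue field map of the pushout is surjective -/
theorem residueField_map_surjective (Q : Ideal T) [Q.IsPrime] (Q' : Ideal T') [Q'.IsPrime]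
    [hQ : Q'.LiesOver Q] (hQp : Q'.comap (algebraMap R' T') = p') :
    Function.Surjective (Ideal.ResidueField.mapₐ Q Q' (Algebra.ofId T T') hQ.over) := by
  intro v
  obtain ⟨ψ, hψ⟩ : ∃ ψ : Q.ResidueField →ₐ[T] Q'.ResidueField,
    ψ = Ideal.ResidueField.mapₐ Q Q' (Algebra.ofId T T') hQ.over := ⟨_, rfl⟩
  rw [← hψ]
  have hin : ∀ s : T, algebraMap T' Q'.ResidueField (algebraMap T T' s) ∈
      (ψ : Q.ResidueField →+* Q'.ResidueField).fieldRange := by
    intro s
    refine RingHom.mem_fieldRange.mpr ⟨algebraMap T Q.ResidueField s, ?_⟩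
    exact (ψ.commutes s).trans (IsScalarTower.algebraMap_apply T T' Q'.ResidueField s)
  have hp1 : p'.map (algebraMap R' T') ≤ Q' := by rw [Ideal.map_le_iff_le_comap, hQp]
  have key : ∀ x : T', algebraMap T' Q'.ResidueField x ∈
      (ψ : Q.ResidueField →+* Q'.ResidueField).fieldRange := by
    intro x
    obtain ⟨b, t, hb, hbt⟩ := exists_approx p p' hκ (T := T) x
    have h0 : algebraMap T' Q'.ResidueField (algebraMap R T' b * x - algebraMap T T' t) = 0 :=
      Ideal.algebraMap_residueField_eq_zero.mpr (hp1 hbt)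
    rw [map_sub, map_mul, sub_eq_zero] at h0
    have hbne : algebraMap T' Q'.ResidueField (algebraMap R T' b) ≠ 0 := by
      rw [Ne, Ideal.algebraMap_residueField_eq_zero]
      exact not_mem_of_not_mem p p' hκ Q' hQp b hb
    have hb_in : algebraMap T' Q'.ResidueField (algebraMap R T' b) ∈
        (ψ : Q.ResidueField →+* Q'.ResidueField).fieldRange := by
      rw [IsScalarTower.algebraMap_apply R T T']
      exact hin _
    have e : algebraMap T' Q'.ResidueField x =
        (algebraMap T' Q'.ResidueField (algebraMap R T' b))⁻¹ *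
          algebraMap T' Q'.ResidueField (algebraMap T T' t) := by
      rw [← h0, ← mul_assoc, inv_mul_cancel₀ hbne, one_mul]
    rw [e]
    exact mul_mem (inv_mem hb_in) (hin t)
  obtain ⟨a, s, hs, hsa⟩ := exists_num_den Q' v
  have hsne : algebraMap T' Q'.ResidueField s ≠ 0 := by
    rwa [Ne, Ideal.algebraMap_residueField_eq_zero]
  have hv : v = (algebraMap T' Q'.ResidueField s)⁻¹ * algebraMap T' Q'.ResidueField a := by
    rw [← hsa, ← mul_assoc, inv_mul_cancel₀ hsne, one_mul]
  have hmem : v ∈ (ψ : Q.ResidueField →+* Q'.ResidueField).fieldRange := by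
    rw [hv]
    exact mul_mem (inv_mem (key s)) (key a)
  obtain ⟨w, hw⟩ := RingHom.mem_fieldRange.mp hmem
  exact ⟨w, hw⟩

/-- extension of the two candidate ideals to a ring killing `p'` and inverting its complement -/
theorem map_map_eq (F' : Type u) [CommRing F'] [Algebra T' F'] [Algebra R' F']
    [IsScalarTower R' T' F']
    (hker : ∀ r' ∈ p', algebraMap R' F' r' = 0)
    (hunit : ∀ r' : R', r' ∉ p' → IsUnit (algebraMap R' F' r'))
    (Q : Ideal T) (Q' : Ideal T') [Q'.IsPrime] (hQ : Q'.comap (algebraMap T T') = Q)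
    (hQp : Q'.comap (algebraMap R' T') = p') :
    (Q.map (algebraMap T T')).map (algebraMap T' F') = Q'.map (algebraMap T' F') := by
  apply le_antisymm
  · apply Ideal.map_mono
    rw [Ideal.map_le_iff_le_comap, hQ]
  · rw [Ideal.map_le_iff_le_comap]
    intro x hx
    rw [Ideal.mem_comap]
    obtain ⟨b, t, hb, hbt⟩ := exists_approx p p' hκ (T := T) x
    have hp1 : p'.map (algebraMap R' T') ≤ Q' := by rw [Ideal.map_le_iff_le_comap, hQp]
    have hk : p'.map (algebraMap R' T') ≤ RingHom.ker (algebraMap T' F') := by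
      rw [Ideal.map_le_iff_le_comap]
      intro r' hr'
      rw [Ideal.mem_comap, RingHom.mem_ker, ← IsScalarTower.algebraMap_apply]
      exact hker r' hr'
    have h0 : algebraMap T' F' (algebraMap R T' b * x - algebraMap T T' t) = 0 := hk hbt
    rw [map_sub, map_mul, sub_eq_zero] at h0
    have ht : t ∈ Q := by
      rw [← hQ, Ideal.mem_comap]
      have h3 := Q'.sub_mem (Q'.mul_mem_left (algebraMap R T' b) hx) (hp1 hbt)
      rwa [sub_sub_cancel] at h3
    have hu : IsUnit (algebraMap T' F' (algebraMap R T' b)) := by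
      rw [IsScalarTower.algebraMap_apply R R' T', ← IsScalarTower.algebraMap_apply R' T' F']
      apply hunit
      intro hbp
      apply hb
      rw [hp.over, Ideal.under_def, Ideal.mem_comap]
      exact hbp
    obtain ⟨w, hw⟩ := hu
    have e : algebraMap T' F' x = ↑w⁻¹ * algebraMap T' F' (algebraMap T T' t) := by
      rw [← h0, ← hw, ← mul_assoc, Units.inv_mul, one_mul]
    rw [e]
    exact Ideal.mul_mem_left _ _ (Ideal.mem_map_of_mem _ (Ideal.mem_map_of_mem _ ht))

end Push

/-- transfer of a transcendence basis along compatible ring isomorphisms -/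
theorem isTranscendenceBasis_transfer {k k' L L' : Type*} [CommRing k] [CommRing k'] [CommRing L]
    [CommRing L'] [Algebra k L] [Algebra k' L'] (σ : k ≃+* k') (τ : L ≃+* L')
    (h : (algebraMap k' L').comp (σ : k →+* k') = (τ : L →+* L').comp (algebraMap k L))
    {ι : Type*} (x : ι → L) (hx : IsTranscendenceBasis k x) :
    IsTranscendenceBasis k' (τ ∘ x) := by
  refine ⟨hx.1.ringHom_of_comp_eq σ τ σ.surjective τ.injective h, fun s hs hxs => ?_⟩
  have hs₀ : AlgebraicIndepOn k id (τ ⁻¹' s) := by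
    have h1 : AlgebraicIndependent k' (τ ∘ (fun i : (τ ⁻¹' s) => (i : L))) :=
      hs.comp (fun i : (τ ⁻¹' s) => (⟨τ i, i.2⟩ : s))
        (fun a b hab => Subtype.ext (τ.injective (congrArg Subtype.val hab)))
    exact h1.of_ringHom_of_comp_eq σ τ σ.injective h
  have hsub : Set.range x ⊆ τ ⁻¹' s := by
    rintro _ ⟨i, rfl⟩
    exact hxs ⟨i, rfl⟩
  have e := hx.2 _ hs₀ hsub
  rw [Set.range_comp, e, Set.image_preimage_eq _ τ.surjective]

/-- transfer of generation as a field along compatible ring isomorphisms -/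
theorem adjoin_transfer {k k' L L' : Type*} [Field k] [Field k'] [Field L] [Field L']
    [Algebra k L] [Algebra k' L'] (σ : k ≃+* k') (τ : L ≃+* L')
    (h : ∀ r, τ (algebraMap k L r) = algebraMap k' L' (σ r)) (s : Set L)
    (hs : IntermediateField.adjoin k s = ⊤) : IntermediateField.adjoin k' (τ '' s) = ⊤ := by
  rw [eq_top_iff]
  rintro y -
  obtain ⟨v, rfl⟩ := τ.surjective y
  have hv : v ∈ IntermediateField.adjoin k s := by
    rw [hs]
    exact IntermediateField.mem_top
  induction hv using IntermediateField.adjoin_induction with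
  | mem x hx => exact IntermediateField.subset_adjoin _ _ ⟨x, hx, rfl⟩
  | algebraMap r =>
    rw [h]
    exact IntermediateField.algebraMap_mem _ _
  | add x y _ _ hx hy =>
    rw [map_add]
    exact add_mem hx hy
  | inv x _ hx =>
    rw [map_inv₀]
    exact inv_mem hx
  | mul x y _ _ hx hy =>
    rw [map_mul]
    exact mul_mem hx hy

/-- purely transcendental residue field extensions are preserved -/
theorem purelyTranscendental_baseChange {R R' D D' : Type u} [CommRing R] [CommRing R']
    [CommRing D] [CommRing D'] [Algebra R R'] [Algebra R D] [Algebra R' D'] [Algebra D D']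
    [Algebra R D'] [IsScalarTower R R' D'] [IsScalarTower R D D'] [Algebra.IsPushout R R' D D']
    (p : Ideal R) [p.IsPrime] (p' : Ideal R') [p'.IsPrime] [hp : p'.LiesOver p]
    (hκ : Function.Surjective (Ideal.ResidueField.mapₐ p p' (Algebra.ofId R R') hp.over))
    (y : Ideal D) [y.IsPrime] [hyp : y.LiesOver p] (y' : Ideal D') [y'.IsPrime]
    [hy'y : y'.LiesOver y] [hy'p' : y'.LiesOver p']
    (h4 : FlatCA.PurelyTranscendental p y) : FlatCA.PurelyTranscendental p' y' := by
  letI a1 : Algebra p.ResidueField y.ResidueField :=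
    (Ideal.ResidueField.mapₐ p y (Algebra.ofId R D) hyp.over).toRingHom.toAlgebra
  letI a2 : Algebra p'.ResidueField y'.ResidueField :=
    (Ideal.ResidueField.mapₐ p' y' (Algebra.ofId R' D') hy'p'.over).toRingHom.toAlgebra
  obtain ⟨ι, x, hx, hadj⟩ := h4
  have hy'p : y'.comap (algebraMap R' D') = p' := hy'p'.over.symm
  let σ : p.ResidueField ≃+* p'.ResidueField :=
    RingEquiv.ofBijective (Ideal.ResidueField.mapₐ p p' (Algebra.ofId R R') hp.over).toRingHom
      ⟨RingHom.injective _, hκ⟩
  let τ : y.ResidueField ≃+* y'.ResidueField :=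
    RingEquiv.ofBijective (Ideal.ResidueField.mapₐ y y' (Algebra.ofId D D') hy'y.over).toRingHom
      ⟨RingHom.injective _, residueField_map_surjective p p' hκ y y' hy'p⟩
  have hcompat : ∀ r, τ (algebraMap p.ResidueField y.ResidueField r) =
      algebraMap p'.ResidueField y'.ResidueField (σ r) := by
    have h0 : (τ : y.ResidueField →+* y'.ResidueField).comp
        (algebraMap p.ResidueField y.ResidueField) =
        (algebraMap p'.ResidueField y'.ResidueField).comp
          (σ : p.ResidueField →+* p'.ResidueField) := by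
      apply Ideal.ResidueField.ringHom_ext
      ext r
      show (Ideal.ResidueField.mapₐ y y' (Algebra.ofId D D') hy'y.over)
          ((Ideal.ResidueField.mapₐ p y (Algebra.ofId R D) hyp.over)
            (algebraMap R p.ResidueField r)) =
        (Ideal.ResidueField.mapₐ p' y' (Algebra.ofId R' D') hy'p'.over)
          ((Ideal.ResidueField.mapₐ p p' (Algebra.ofId R R') hp.over)
            (algebraMap R p.ResidueField r))
      rw [AlgHom.commutes, AlgHom.commutes, IsScalarTower.algebraMap_apply R D y.ResidueField,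
        AlgHom.commutes, IsScalarTower.algebraMap_apply R R' p'.ResidueField, AlgHom.commutes,
        IsScalarTower.algebraMap_apply D D' y'.ResidueField,
        IsScalarTower.algebraMap_apply R' D' y'.ResidueField,
        ← IsScalarTower.algebraMap_apply R D D', ← IsScalarTower.algebraMap_apply R R' D']
    intro r
    exact congrArg (fun g => g r) h0
  refine ⟨ι, τ ∘ x, ?_, ?_⟩
  · exact isTranscendenceBasis_transfer σ τ (RingHom.ext fun r => (hcompat r).symm) x hx
  · rw [Set.range_comp]
    exact adjoin_transfer σ τ hcompat _ hadj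

/-- an isomorphic base field does not change the ring -/
theorem exists_iota (k K F : Type u) [CommRing k] [CommRing K] [Algebra k K] [CommRing F]
    [Algebra k F] (hb : Function.Bijective (algebraMap k K)) :
    ∃ ι : F ≃+* K ⊗[k] F, ∀ x, ι x = (1 : K) ⊗ₜ[k] x := by
  let σ : k ≃ₐ[k] K := AlgEquiv.ofBijective (Algebra.ofId k K) hb
  let e1 : F ≃ₐ[k] k ⊗[k] F := (Algebra.TensorProduct.lid k F).symm
  let e2 : k ⊗[k] F ≃ₐ[k] K ⊗[k] F :=
    Algebra.TensorProduct.congr σ (AlgEquiv.refl : F ≃ₐ[k] F)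
  refine ⟨(e1.trans e2).toRingEquiv, fun x => ?_⟩
  show e2 (e1 x) = _
  have h1 : e1 x = (1 : k) ⊗ₜ[k] x := rfl
  rw [h1]
  show (σ 1) ⊗ₜ[k] x = _
  rw [map_one]

/-- the core comparison of local dimensions, with generic fibre rings -/
theorem localDim_core (S S' F F' : Type u) [CommRing S] [CommRing S'] [CommRing F] [CommRing F']
    [Algebra S S'] [Algebra S F] [Algebra S' F'] [Algebra S F'] [IsScalarTower S S' F']
    (θ : F ≃+* F') (hθ : ∀ s : S, θ (algebraMap S F s) = algebraMap S F' s)
    (N : Type u) [AddCommGroup N] [Module S N] [Module.Finite S N]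
    (N' : Type u) [AddCommGroup N'] [Module S' N'] [Module S N'] [IsScalarTower S S' N']
    (f : N →ₗ[S] N') (hf : IsBaseChange S' f)
    (q : Ideal S) (q' : Ideal S')
    (hI : (q.map (algebraMap S S')).map (algebraMap S' F') = q'.map (algebraMap S' F'))
    (ξ : PrimeSpectrum F) (hξ : ξ ∈ Module.support F (F ⊗[S] N))
    (hξq : ξ.asIdeal = q.map (algebraMap S F)) :
    ∃ (ξ' : PrimeSpectrum F') (hξ' : ξ' ∈ Module.support F' (F' ⊗[S'] N')),
      ξ'.asIdeal = q'.map (algebraMap S' F') ∧
      FlatMor.localDim (Module.support F' (F' ⊗[S'] N')) ⟨ξ', hξ'⟩ =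
        FlatMor.localDim (Module.support F (F ⊗[S] N)) ⟨ξ, hξ⟩ := by
  have e : F' ⊗[S'] N' ≃ₗ[F'] F' ⊗[S] N :=
    (TensorProduct.AlgebraTensorModule.congr (LinearEquiv.refl F' F') hf.equiv.symm) ≪≫ₗ
      TensorProduct.AlgebraTensorModule.cancelBaseChange S S' F' F' N
  obtain ⟨H, hH⟩ : ∃ H : PrimeSpectrum F ≃ₜ PrimeSpectrum F',
      ∀ x, (H x).asIdeal = x.asIdeal.comap (θ.symm : F' →+* F) :=
    ⟨PrimeSpectrum.homeomorphOfRingEquiv θ, fun x => rfl⟩
  have hcomp : ((θ.symm : F' →+* F)).comp (algebraMap S F') = algebraMap S F := by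
    ext s
    simp only [RingHom.comp_apply, RingHom.coe_coe]
    rw [← hθ s, RingEquiv.symm_apply_apply]
  have hcomp' : ((θ : F →+* F')).comp (algebraMap S F) = algebraMap S F' := by
    ext s
    simp only [RingHom.comp_apply, RingHom.coe_coe]
    exact hθ s
  have h_iff : ∀ x : PrimeSpectrum F, x ∈ Module.support F (F ⊗[S] N) ↔
      H x ∈ Module.support F' (F' ⊗[S'] N') := by
    intro x
    rw [LinearEquiv.support_eq e, Groth.Agent.Helper7.FibSupp.mem_support_baseChange_iff,
      Groth.Agent.Helper7.FibSupp.mem_support_baseChange_iff, hH x, Ideal.comap_comap, hcomp]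
  refine ⟨H ξ, (h_iff ξ).1 hξ, ?_, ?_⟩
  · rw [hH ξ, hξq]
    have h1 : (q.map (algebraMap S F)).comap (θ.symm : F' →+* F) =
        (q.map (algebraMap S F)).map (θ : F →+* F') := (Ideal.map_comap_of_equiv θ).symm
    rw [h1, Ideal.map_map, hcomp', IsScalarTower.algebraMap_eq S S' F', ← Ideal.map_map, hI]
  · exact (Groth.Agent.Lib.Helper5.SmFib.localDim_homeomorph (H.subtype h_iff) ⟨ξ, hξ⟩).symm

/-- the local dimension of the support of the fibre module at the point is invariant -/
theorem localDim_fiber (R S : Type u) [CommRing R] [CommRing S] [Algebra R S]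
    [Algebra.FiniteType R S]
    (N : Type u) [AddCommGroup N] [Module S N] [Module R N] [IsScalarTower R S N]
    [Module.Finite S N] (p : Ideal R) [p.IsPrime] (q : Ideal S) [q.IsPrime]
    (R' : Type u) [CommRing R'] [Algebra R R'] (p' : Ideal R') [p'.IsPrime] [hp : p'.LiesOver p]
    (hκ : Function.Bijective (Ideal.ResidueField.mapₐ p p' (Algebra.ofId R R') hp.over))
    (S' : Type u) [CommRing S'] [Algebra R' S'] [Algebra R S'] [Algebra S S']
    [IsScalarTower R R' S'] [IsScalarTower R S S'] [Algebra.IsPushout R R' S S']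
    (N' : Type u) [AddCommGroup N'] [Module S' N'] [Module R' N'] [IsScalarTower R' S' N']
    [Module S N'] [IsScalarTower S S' N'] (f : N →ₗ[S] N') (hf : IsBaseChange S' f)
    (q' : Ideal S') [q'.IsPrime] [hq'q : q'.LiesOver q] [hq'p' : q'.LiesOver p']
    (ξ : PrimeSpectrum (p.Fiber S)) (hξ : ξ ∈ Module.support (p.Fiber S) (FlatCA.fiberMod p S N))
    (hξq : ξ.asIdeal = FlatCA.fiberIdeal p q) :
    ∃ (ξ' : PrimeSpectrum (p'.Fiber S'))
      (hξ' : ξ' ∈ Module.support (p'.Fiber S') (FlatCA.fiberMod p' S' N')),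
      ξ'.asIdeal = FlatCA.fiberIdeal p' q' ∧
      FlatMor.localDim (Module.support (p'.Fiber S') (FlatCA.fiberMod p' S' N')) ⟨ξ', hξ'⟩ =
        FlatMor.localDim (Module.support (p.Fiber S) (FlatCA.fiberMod p S N)) ⟨ξ, hξ⟩ := by
  letI aK : Algebra p.ResidueField p'.ResidueField :=
    (Ideal.ResidueField.mapₐ p p' (Algebra.ofId R R') hp.over).toRingHom.toAlgebra
  haveI tK : IsScalarTower R p.ResidueField p'.ResidueField :=
    IsScalarTower.of_algebraMap_eq fun r =>
      ((Ideal.ResidueField.mapₐ p p' (Algebra.ofId R R') hp.over).commutes r).symm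
  have hb : Function.Bijective (algebraMap p.ResidueField p'.ResidueField) := hκ
  obtain ⟨φ, hφ⟩ := exists_phi R S R' S' p.ResidueField p'.ResidueField
  obtain ⟨ι, hι⟩ := exists_iota p.ResidueField p'.ResidueField (p.Fiber S) hb
  letI aSF' : Algebra S (p'.Fiber S') :=
    ((algebraMap S' (p'.Fiber S')).comp (algebraMap S S')).toAlgebra
  haveI tSF' : IsScalarTower S S' (p'.Fiber S') := IsScalarTower.of_algebraMap_eq fun s => rfl
  have hθ : ∀ s : S, (ι.trans φ.symm) (algebraMap S (p.Fiber S) s) =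
      algebraMap S (p'.Fiber S') s := by
    intro s
    show φ.symm (ι (algebraMap S (p.Fiber S) s)) = _
    rw [hι, RingEquiv.symm_apply_eq]
    exact (hφ s).symm
  have hI : (q.map (algebraMap S S')).map (algebraMap S' (p'.Fiber S')) =
      q'.map (algebraMap S' (p'.Fiber S')) := by
    refine map_map_eq p p' hκ.2 (p'.Fiber S') ?_ ?_ q q' hq'q.over.symm hq'p'.over.symm
    · intro r' hr'
      rw [IsScalarTower.algebraMap_apply R' p'.ResidueField (p'.Fiber S'),
        Ideal.algebraMap_residueField_eq_zero.mpr hr', map_zero]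
    · intro r' hr'
      rw [IsScalarTower.algebraMap_apply R' p'.ResidueField (p'.Fiber S')]
      exact (isUnit_iff_ne_zero.mpr
        (fun h0 => hr' (Ideal.algebraMap_residueField_eq_zero.mp h0))).map _
  exact localDim_core S S' (p.Fiber S) (p'.Fiber S') (ι.trans φ.symm) hθ N N' f hf q q' hI ξ hξ hξq

/-- **Base change of a one-step devissage at a point.** -/
theorem mainAt
    (R S : Type u) [CommRing R] [CommRing S] [Algebra R S] [Algebra.FiniteType R S]
    (N : Type u) [AddCommGroup N] [Module S N] [Module R N] [IsScalarTower R S N] [Module.Finite S N]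
    (p : Ideal R) [p.IsPrime] (q : Ideal S) [q.IsPrime] [q.LiesOver p]
    (C D G : Type u) [CommRing C] [CommRing D] [Algebra S C] [Algebra R C] [IsScalarTower R S C]
    [Algebra R D] [Algebra D C] [IsScalarTower R D C] [AddCommGroup G] [Module C G] [Module S G]
    [IsScalarTower S C G] (n : ℕ)
    (h : FlatCA.IsOneStepDevissage R S N p C D G n)
    (z : Ideal C) [z.IsPrime] (y : Ideal D) [y.IsPrime] [hzq : z.LiesOver q] [hzy : z.LiesOver y]
    [hyp : y.LiesOver p]
    (h1 : ∃ (ξ : PrimeSpectrum (p.Fiber S))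
      (hξ : ξ ∈ Module.support (p.Fiber S) (FlatCA.fiberMod p S N)),
      ξ.asIdeal = FlatCA.fiberIdeal p q ∧
      FlatMor.localDim (Module.support (p.Fiber S) (FlatCA.fiberMod p S N)) ⟨ξ, hξ⟩ = n)
    (h3 : ∀ (z₁ : Ideal C) [z₁.IsPrime], z₁.LiesOver y → z₁ = z)
    (h4 : FlatCA.PurelyTranscendental p y)
    (R' : Type u) [CommRing R'] [Algebra R R'] (p' : Ideal R') [p'.IsPrime] [hp' : p'.LiesOver p]
    (hκ : Function.Bijective (Ideal.ResidueField.mapₐ p p' (Algebra.ofId R R') hp'.over))
    (S' C' D' : Type u) [CommRing S'] [CommRing C'] [CommRing D']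
    [Algebra R' S'] [Algebra R S'] [Algebra S S'] [IsScalarTower R R' S'] [IsScalarTower R S S']
    [Algebra.IsPushout R R' S S']
    [Algebra R' C'] [Algebra R C'] [Algebra C C'] [IsScalarTower R R' C'] [IsScalarTower R C C']
    [Algebra.IsPushout R R' C C']
    [Algebra R' D'] [Algebra R D'] [Algebra D D'] [IsScalarTower R R' D'] [IsScalarTower R D D']
    [Algebra.IsPushout R R' D D']
    [Algebra S' C'] [IsScalarTower R' S' C'] [Algebra S C'] [IsScalarTower S S' C']
    [IsScalarTower S C C']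
    [Algebra D' C'] [IsScalarTower R' D' C'] [Algebra D C'] [IsScalarTower D D' C']
    [IsScalarTower D C C']
    (N' : Type u) [AddCommGroup N'] [Module S' N'] [Module R' N'] [IsScalarTower R' S' N']
    [Module S N'] [IsScalarTower S S' N'] (f : N →ₗ[S] N') (hf : IsBaseChange S' f)
    (G' : Type u) [AddCommGroup G'] [Module C' G'] [Module S' G'] [IsScalarTower S' C' G']
    [Module C G'] [IsScalarTower C C' G'] (g : G →ₗ[C] G') (hg : IsBaseChange C' g)
    (q' : Ideal S') [q'.IsPrime] [hq'q : q'.LiesOver q] [hq'p' : q'.LiesOver p']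
    (z' : Ideal C') [z'.IsPrime] [hz'z : z'.LiesOver z] [hz'p' : z'.LiesOver p']
    (y' : Ideal D') [y'.IsPrime] [hy'y : y'.LiesOver y] [hy'p' : y'.LiesOver p'] :
    (∀ (q₁ : Ideal S') [q₁.IsPrime], q₁.LiesOver q → q₁.LiesOver p' → q₁ = q') ∧
    FlatCA.IsOneStepDevissage R' S' N' p' C' D' G' n ∧
    (∃ (ξ' : PrimeSpectrum (p'.Fiber S'))
      (hξ' : ξ' ∈ Module.support (p'.Fiber S') (FlatCA.fiberMod p' S' N')),
      ξ'.asIdeal = FlatCA.fiberIdeal p' q' ∧
      FlatMor.localDim (Module.support (p'.Fiber S') (FlatCA.fiberMod p' S' N')) ⟨ξ', hξ'⟩ = n) ∧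
    z'.LiesOver q' ∧ z'.LiesOver y' ∧
    (∀ (z₁ : Ideal C') [z₁.IsPrime], z₁.LiesOver y' → z₁ = z') ∧
    FlatCA.PurelyTranscendental p' y' := by
  have hq'1 : q'.comap (algebraMap S S') = q := hq'q.over.symm
  have hq'2 : q'.comap (algebraMap R' S') = p' := hq'p'.over.symm
  have hz'1 : z'.comap (algebraMap C C') = z := hz'z.over.symm
  have hz'2 : z'.comap (algebraMap R' C') = p' := hz'p'.over.symm
  have hy'1 : y'.comap (algebraMap D D') = y := hy'y.over.symm
  have hy'2 : y'.comap (algebraMap R' D') = p' := hy'p'.over.symm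
  have hz1 : z.comap (algebraMap S C) = q := hzq.over.symm
  have hz2 : z.comap (algebraMap D C) = y := hzy.over.symm
  refine ⟨?_, main R S N p C D G n h R' p' S' C' D' N' f hf G' g hg, ?_, ?_, ?_, ?_, ?_⟩
  · intro q₁ _ hq₁q hq₁p'
    exact prime_unique (T := S) p p' hκ.2 q₁ q' hq₁p'.over.symm hq'2
      (hq₁q.over.symm.trans hq'1.symm)
  · obtain ⟨ξ, hξ, hξq, hdim⟩ := h1
    obtain ⟨ξ', hξ', hξ'q, hdim'⟩ := localDim_fiber R S N p q R' p' hκ S' N' f hf q' ξ hξ hξq
    exact ⟨ξ', hξ', hξ'q, hdim'.trans hdim⟩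
  · haveI : (z'.comap (algebraMap S' C')).IsPrime := Ideal.comap_isPrime _ _
    have e : z'.comap (algebraMap S' C') = q' := by
      refine prime_unique (T := S) p p' hκ.2 _ q' ?_ hq'2 ?_
      · rw [Ideal.comap_comap, ← IsScalarTower.algebraMap_eq R' S' C', hz'2]
      · rw [Ideal.comap_comap, ← IsScalarTower.algebraMap_eq S S' C',
          IsScalarTower.algebraMap_eq S C C', ← Ideal.comap_comap, hz'1, hz1, hq'1]
    exact ⟨e.symm⟩
  · haveI : (z'.comap (algebraMap D' C')).IsPrime := Ideal.comap_isPrime _ _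
    have e : z'.comap (algebraMap D' C') = y' := by
      refine prime_unique (T := D) p p' hκ.2 _ y' ?_ hy'2 ?_
      · rw [Ideal.comap_comap, ← IsScalarTower.algebraMap_eq R' D' C', hz'2]
      · rw [Ideal.comap_comap, ← IsScalarTower.algebraMap_eq D D' C',
          IsScalarTower.algebraMap_eq D C C', ← Ideal.comap_comap, hz'1, hz2, hy'1]
    exact ⟨e.symm⟩
  · intro z₁ _ hz₁y'
    have hz₁1 : z₁.comap (algebraMap D' C') = y' := hz₁y'.over.symm
    have hz₁2 : z₁.comap (algebraMap R' C') = p' := by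
      rw [IsScalarTower.algebraMap_eq R' D' C', ← Ideal.comap_comap, hz₁1, hy'2]
    haveI : (z₁.comap (algebraMap C C')).IsPrime := Ideal.comap_isPrime _ _
    have hz₀ : z₁.comap (algebraMap C C') = z := by
      apply h3
      refine ⟨?_⟩
      show y = (z₁.comap (algebraMap C C')).comap (algebraMap D C)
      rw [Ideal.comap_comap, ← IsScalarTower.algebraMap_eq D C C',
        IsScalarTower.algebraMap_eq D D' C', ← Ideal.comap_comap, hz₁1, hy'1]
    exact prime_unique (T := C) p p' hκ.2 z₁ z' hz₁2 hz'2 (hz₀.trans hz'1.symm)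
  · exact purelyTranscendental_baseChange p p' hκ.2 y y' h4

end Groth.Agent.Helper7.OneStep
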