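import Mathlib
import Groth.Prelude
import Groth.Agent.Lib.Helper7.OneStep.AtBC

/-!
# helper7: a complete devissage at a point under base change along a residually trivial map
-/

set_option linter.style.haveILetI false
set_option linter.unusedVariables false
set_option linter.unusedSectionVars false
set_option autoImplicit false
set_option backward.isDefEq.respectTransparency.types false
set_option synthInstance.maxHeartbeats 400000
set_option maxHeartbeats 1600000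

universe u

open TensorProduct

namespace Groth.Agent.Helper7.OneStep

attribute [local instance] Algebra.TensorProduct.rightAlgebra

/-- a prime of the pushout over a prime upstairs and the residually trivial prime of the base -/
theorem exists_prime_over {R R' T T' : Type u} [CommRing R] [CommRing R'] [CommRing T]
    [CommRing T'] [Algebra R R'] [Algebra R T] [Algebra R' T'] [Algebra T T'] [Algebra R T']
    [IsScalarTower R R' T'] [IsScalarTower R T T'] [Algebra.IsPushout R R' T T']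
    (p : Ideal R) [p.IsPrime] (p' : Ideal R') [p'.IsPrime] [hp : p'.LiesOver p]
    (hκ : Function.Bijective (Ideal.ResidueField.mapₐ p p' (Algebra.ofId R R') hp.over))
    (Q : Ideal T) [Q.IsPrime] (hQ : Q.comap (algebraMap R T) = p) :
    ∃ Q' : Ideal T', Q'.IsPrime ∧ Q'.comap (algebraMap T T') = Q ∧
      Q'.comap (algebraMap R' T') = p' := by
  obtain ⟨σ, hσ⟩ : ∃ σ : p.ResidueField ≃ₐ[R] p'.ResidueField, σ = AlgEquiv.ofBijective
      (Ideal.ResidueField.mapₐ p p' (Algebra.ofId R R') hp.over) hκ := ⟨_, rfl⟩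
  obtain ⟨ι, hι⟩ : ∃ ι : p.ResidueField →ₐ[R] Q.ResidueField,
      ι = Ideal.ResidueField.mapₐ p Q (Algebra.ofId R T) hQ.symm := ⟨_, rfl⟩
  obtain ⟨gR', hgR'⟩ : ∃ gR' : R' →ₐ[R] Q.ResidueField,
      ∀ x, gR' x = ι (σ.symm (algebraMap R' p'.ResidueField x)) :=
    ⟨(ι.comp σ.symm.toAlgHom).comp (IsScalarTower.toAlgHom R R' p'.ResidueField), fun x => rfl⟩
  obtain ⟨fT, hfT⟩ : ∃ fT : T →ₐ[R] Q.ResidueField, ∀ t, fT t = algebraMap T Q.ResidueField t :=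
    ⟨IsScalarTower.toAlgHom R T Q.ResidueField, fun t => rfl⟩
  obtain ⟨ψ, hψ⟩ : ∃ ψ : T' →ₐ[R] Q.ResidueField,
      ψ = Algebra.pushoutDesc T' gR' fT (fun _ _ => mul_comm _ _) := ⟨_, rfl⟩
  have hψR' : ∀ x, ψ (algebraMap R' T' x) = gR' x := fun x => by
    rw [hψ]
    exact Algebra.pushoutDesc_left T' gR' fT _ x
  have hψT : ∀ t, ψ (algebraMap T T' t) = fT t := fun t => by
    rw [hψ]
    exact Algebra.pushoutDesc_right T' gR' fT _ t
  refine ⟨RingHom.ker ψ.toRingHom, RingHom.ker_isPrime _, ?_, ?_⟩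
  · ext t
    rw [Ideal.mem_comap, RingHom.mem_ker]
    show ψ (algebraMap T T' t) = 0 ↔ t ∈ Q
    rw [hψT, hfT]
    exact Ideal.algebraMap_residueField_eq_zero
  · ext x
    rw [Ideal.mem_comap, RingHom.mem_ker]
    show ψ (algebraMap R' T' x) = 0 ↔ x ∈ p'
    rw [hψR', hgR', map_eq_zero, map_eq_zero]
    exact Ideal.algebraMap_residueField_eq_zero

/-- the points of one step of a complete devissage after base change -/
theorem step_at
    {R : Type u} [CommRing R] (p : Ideal R) [p.IsPrime]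
    {R' : Type u} [CommRing R'] [Algebra R R'] (p' : Ideal R') [p'.IsPrime] [hp' : p'.LiesOver p]
    (hκ : Function.Bijective (Ideal.ResidueField.mapₐ p p' (Algebra.ofId R R') hp'.over))
    (B A : Type u) [CommRing B] [CommRing A] [Algebra R B] [Algebra R A] [Algebra B A]
    [IsScalarTower R B A]
    (B' A' : Type u) [CommRing B'] [CommRing A'] [Algebra R' B'] [Algebra R' A'] [Algebra B' A']
    [IsScalarTower R' B' A']
    [Algebra R B'] [Algebra B B'] [IsScalarTower R R' B'] [IsScalarTower R B B']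
    [Algebra.IsPushout R R' B B']
    [Algebra R A'] [Algebra A A'] [IsScalarTower R R' A'] [IsScalarTower R A A']
    [Algebra.IsPushout R R' A A']
    [Algebra B A'] [IsScalarTower B A A'] [IsScalarTower B B' A']
    (qB : Ideal B) [qB.IsPrime] [hqBp : qB.LiesOver p] (qA : Ideal A) [qA.IsPrime]
    [hqAB : qA.LiesOver qB]
    (huniq : ∀ (Q : Ideal A) [Q.IsPrime], Q.LiesOver qB → Q = qA)
    (hPT : FlatCA.PurelyTranscendental p qB) :
    ∃ (QB : Ideal B') (QA : Ideal A') (_ : QB.IsPrime) (_ : QA.IsPrime) (_ : QB.LiesOver p')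
      (_ : QA.LiesOver QB),
      QB.LiesOver qB ∧ QA.LiesOver qA ∧
      FlatCA.PurelyTranscendental p' QB ∧
      (∀ (Q : Ideal A') [Q.IsPrime], Q.LiesOver QB → Q = QA) ∧
      (∀ (Q : Ideal B') [Q.IsPrime], Q.comap (algebraMap R' B') = p' →
        Q.comap (algebraMap B B') = qB → Q = QB) ∧
      (∀ (Q : Ideal A') [Q.IsPrime], Q.comap (algebraMap R' A') = p' →
        Q.comap (algebraMap A A') = qA → Q = QA) := by
  have hqBp' : qB.comap (algebraMap R B) = p := hqBp.over.symm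
  have hqAB' : qA.comap (algebraMap B A) = qB := hqAB.over.symm
  have hqAp : qA.comap (algebraMap R A) = p := by
    rw [IsScalarTower.algebraMap_eq R B A, ← Ideal.comap_comap, hqAB', hqBp']
  obtain ⟨QB, hQBprime, hQB1, hQB2⟩ := exists_prime_over (T' := B') p p' hκ qB hqBp'
  obtain ⟨QA, hQAprime, hQA1, hQA2⟩ := exists_prime_over (T' := A') p p' hκ qA hqAp
  haveI := hQBprime
  haveI := hQAprime
  haveI oB : QB.LiesOver p' := ⟨hQB2.symm⟩
  haveI oBq : QB.LiesOver qB := ⟨hQB1.symm⟩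
  have hAB : QA.comap (algebraMap B' A') = QB := by
    haveI : (QA.comap (algebraMap B' A')).IsPrime := Ideal.comap_isPrime _ _
    refine prime_unique (T := B) p p' hκ.2 _ QB ?_ hQB2 ?_
    · rw [Ideal.comap_comap, ← IsScalarTower.algebraMap_eq R' B' A', hQA2]
    · rw [Ideal.comap_comap, ← IsScalarTower.algebraMap_eq B B' A',
        IsScalarTower.algebraMap_eq B A A', ← Ideal.comap_comap, hQA1, hqAB', hQB1]
  haveI oA : QA.LiesOver QB := ⟨hAB.symm⟩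
  refine ⟨QB, QA, hQBprime, hQAprime, oB, oA, oBq, ⟨hQA1.symm⟩, ?_, ?_, ?_, ?_⟩
  · exact purelyTranscendental_baseChange p p' hκ.2 qB QB hPT
  · intro Q _ hQ
    have hQ1 : Q.comap (algebraMap B' A') = QB := hQ.over.symm
    have hQ2 : Q.comap (algebraMap R' A') = p' := by
      rw [IsScalarTower.algebraMap_eq R' B' A', ← Ideal.comap_comap, hQ1, hQB2]
    haveI : (Q.comap (algebraMap A A')).IsPrime := Ideal.comap_isPrime _ _
    have hQ0 : Q.comap (algebraMap A A') = qA := by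
      apply huniq
      refine ⟨?_⟩
      show qB = (Q.comap (algebraMap A A')).comap (algebraMap B A)
      rw [Ideal.comap_comap, ← IsScalarTower.algebraMap_eq B A A',
        IsScalarTower.algebraMap_eq B B' A', ← Ideal.comap_comap, hQ1, hQB1]
    exact prime_unique (T := A) p p' hκ.2 Q QA hQ2 hQA2 (hQ0.trans hQA1.symm)
  · intro Q _ h1 h2
    exact prime_unique (T := B) p p' hκ.2 Q QB h1 hQB2 (h2.trans hQB1.symm)
  · intro Q _ h1 h2
    exact prime_unique (T := A) p p' hκ.2 Q QA h1 hQA2 (h2.trans hQA1.symm)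

/-- the local dimension condition of one step after base change -/
theorem step_locDim
    {R : Type u} [CommRing R] (p : Ideal R) [p.IsPrime]
    {R' : Type u} [CommRing R'] [Algebra R R'] (p' : Ideal R') [p'.IsPrime] [hp' : p'.LiesOver p]
    (hκ : Function.Bijective (Ideal.ResidueField.mapₐ p p' (Algebra.ofId R R') hp'.over))
    (B A M : Type u) [CommRing B] [CommRing A] [Algebra R B] [Algebra R A] [Algebra B A]
    [IsScalarTower R B A] [Algebra.FiniteType R B]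
    [AddCommGroup M] [Module A M] [Module B M] [IsScalarTower B A M] [Module R M]
    [IsScalarTower R B M] [Module.Finite B M]
    (B' A' M' : Type u) [CommRing B'] [CommRing A'] [Algebra R' B'] [Algebra R' A'] [Algebra B' A']
    [IsScalarTower R' B' A']
    [Algebra R B'] [Algebra B B'] [IsScalarTower R R' B'] [IsScalarTower R B B']
    [Algebra.IsPushout R R' B B']
    [Algebra R A'] [Algebra A A'] [IsScalarTower R R' A'] [IsScalarTower R A A']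
    [Algebra.IsPushout R R' A A']
    [Algebra B A'] [IsScalarTower B A A'] [IsScalarTower B B' A']
    [AddCommGroup M'] [Module A' M'] [Module B' M'] [IsScalarTower B' A' M'] [Module R' M']
    [IsScalarTower R' B' M'] [Module A M'] [IsScalarTower A A' M']
    (gM : M →ₗ[A] M') (hgM : IsBaseChange A' gM)
    (qB : Ideal B) [qB.IsPrime] (QB : Ideal B') [QB.IsPrime] [QB.LiesOver qB] [QB.LiesOver p']
    (d : ℕ)
    (hloc : ∃ (x : PrimeSpectrum (p.Fiber B))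
      (hx : x ∈ Module.support (p.Fiber B) (FlatCA.fiberMod p B M)),
      x.asIdeal = FlatCA.fiberIdeal p qB ∧
      FlatMor.localDim (Module.support (p.Fiber B) (FlatCA.fiberMod p B M)) ⟨x, hx⟩ = d) :
    ∃ (x : PrimeSpectrum (p'.Fiber B'))
      (hx : x ∈ Module.support (p'.Fiber B') (FlatCA.fiberMod p' B' M')),
      x.asIdeal = FlatCA.fiberIdeal p' QB ∧
      FlatMor.localDim (Module.support (p'.Fiber B') (FlatCA.fiberMod p' B' M')) ⟨x, hx⟩ = d := by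
  letI mBM' : Module B M' := Module.compHom M' (algebraMap B B')
  haveI tBB'M' : IsScalarTower B B' M' := ⟨fun b b' x => by
    change (b • b') • x = algebraMap B B' b • (b' • x)
    rw [Algebra.smul_def, mul_smul]⟩
  haveI tBAM' : IsScalarTower B A M' := ⟨fun b a x => by
    change (b • a) • x = algebraMap B B' b • (a • x)
    rw [Algebra.smul_def, mul_smul, ← algebraMap_smul A' (algebraMap B A b) (a • x),
      ← IsScalarTower.algebraMap_apply B A A', IsScalarTower.algebraMap_apply B B' A',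
      algebraMap_smul]⟩
  haveI pB : Algebra.IsPushout R B R' B' := Algebra.IsPushout.symm inferInstance
  haveI pA : Algebra.IsPushout R A R' A' := Algebra.IsPushout.symm inferInstance
  haveI tRB'A' : IsScalarTower R B' A' := IsScalarTower.of_algebraMap_eq fun x => by
    rw [IsScalarTower.algebraMap_apply R R' A', IsScalarTower.algebraMap_apply R' B' A',
      ← IsScalarTower.algebraMap_apply R R' B']
  haveI pBA : Algebra.IsPushout B A B' A' :=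
    (Algebra.IsPushout.comp_iff R B R' B' (T := A) (T' := A')).mp pA
  have hgB : IsBaseChange B' (gM.restrictScalars B) :=
    Groth.Agent.Helper7.ImpDesc.isBaseChange_restrict M B' A' M' gM hgM
  obtain ⟨ξ, hξ, hξq, hdim⟩ := hloc
  obtain ⟨ξ', hξ', hξ'q, hdim'⟩ := localDim_fiber R B M p qB R' p' hκ B' M'
    (gM.restrictScalars B) hgB QB ξ hξ hξq
  exact ⟨ξ', hξ', hξ'q, hdim'.trans hdim⟩

/-- **A complete devissage at a point under base change along a residually trivial map.** -/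
theorem main_S12244
    (R S : Type u) [CommRing R] [CommRing S] [Algebra R S] [Algebra.FiniteType R S]
    (N : Type u) [AddCommGroup N] [Module S N] [Module.Finite S N]
    (p : Ideal R) [p.IsPrime] (q : Ideal S) [q.IsPrime] (𝒟 : FlatCA.CompleteDevissage R S N p)
    (𝒜 : FlatCA.CompleteDevissageAt R S N p q 𝒟)
    (R' : Type u) [CommRing R'] [Algebra R R'] (p' : Ideal R') [p'.IsPrime] [hp' : p'.LiesOver p]
    (hκ : Function.Bijective (Ideal.ResidueField.mapₐ p p' (Algebra.ofId R R') hp'.over))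
    (S' : Type u) [CommRing S'] [Algebra R' S'] [Algebra R S'] [Algebra S S'] [IsScalarTower R R' S']
    [IsScalarTower R S S'] [Algebra.IsPushout R R' S S']
    (N' : Type u) [AddCommGroup N'] [Module S' N'] [Module S N'] [IsScalarTower S S' N']
    (f : N →ₗ[S] N') (hf : IsBaseChange S' f)
    (q' : Ideal S') [q'.IsPrime] [q'.LiesOver q] [q'.LiesOver p']
    (𝒟' : FlatCA.CompleteDevissage R' S' N' p') (hn : 𝒟'.n = 𝒟.n)
    (htail : ∀ i, 𝒟.n ≤ i → ∃ (Q : Ideal (𝒟'.B i)) (P : Ideal (𝒟'.A i)),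
      Q.IsPrime ∧ P.IsPrime ∧ Q.LiesOver p' ∧ P.LiesOver Q)
    [aA : ∀ i : Fin 𝒟.n, Algebra (𝒟.A i) (𝒟'.A i)] [rA : ∀ i : Fin 𝒟.n, Algebra R (𝒟'.A i)]
      [∀ i : Fin 𝒟.n, IsScalarTower R (R') (𝒟'.A i)] [∀ i : Fin 𝒟.n, IsScalarTower R (𝒟.A i) (𝒟'.A i)]
      [aB : ∀ i : Fin 𝒟.n, Algebra (𝒟.B i) (𝒟'.B i)] [rB : ∀ i : Fin 𝒟.n, Algebra R (𝒟'.B i)]
      [∀ i : Fin 𝒟.n, IsScalarTower R (R') (𝒟'.B i)] [∀ i : Fin 𝒟.n, IsScalarTower R (𝒟.B i) (𝒟'.B i)]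
      [bA : ∀ i : Fin 𝒟.n, Algebra (𝒟.B i) (𝒟'.A i)] [∀ i : Fin 𝒟.n, IsScalarTower (𝒟.B i) (𝒟.A i) (𝒟'.A i)]
      [∀ i : Fin 𝒟.n, IsScalarTower (𝒟.B i) (𝒟'.B i) (𝒟'.A i)]
      [bA' : ∀ i : Fin 𝒟.n, Algebra (𝒟.B i) (𝒟'.A (i + 1))]
      [∀ i : Fin 𝒟.n, IsScalarTower (𝒟.B i) (𝒟'.B i) (𝒟'.A (i + 1))]
      [sA : Algebra S (𝒟'.A 0)] [IsScalarTower S (S') (𝒟'.A 0)]
      [mA : ∀ i : Fin 𝒟.n, Module (𝒟.A i) (𝒟'.M i)] [∀ i : Fin 𝒟.n, IsScalarTower (𝒟.A i) (𝒟'.A i) (𝒟'.M i)]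
      (gM : ∀ i : Fin 𝒟.n, 𝒟.M i →ₗ[𝒟.A i] 𝒟'.M i)
    (hbc : (letI := aA ⟨0, 𝒟.pos⟩; IsScalarTower S (𝒟.A 0) (𝒟'.A 0)) ∧
      (∀ x : N, 𝒟'.isoN (f x) = gM ⟨0, 𝒟.pos⟩ (𝒟.isoN x)) ∧
      (∀ (i : Fin 𝒟.n) (h : (i : ℕ) + 1 < 𝒟.n),
        letI := aA ⟨i + 1, h⟩; IsScalarTower (𝒟.B i) (𝒟.A (i + 1)) (𝒟'.A (i + 1))) ∧
      ∀ i : Fin 𝒟.n,
        Algebra.IsPushout R R' (𝒟.A i) (𝒟'.A i) ∧ Algebra.IsPushout R R' (𝒟.B i) (𝒟'.B i) ∧
        IsBaseChange (𝒟'.A i) (gM i)) :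
    ∃ 𝒜' : FlatCA.CompleteDevissageAt R' S' N' p' q' 𝒟', 𝒜'.d = 𝒜.d ∧
      ∀ i : Fin 𝒟.n, (𝒜'.qB i).LiesOver (𝒜.qB i) ∧ (𝒜'.qA i).LiesOver (𝒜.qA i) := by
  obtain ⟨hb0, hbiso, hbstep, hball⟩ := hbc
  have hstep : ∀ i : Fin 𝒟.n, ∃ (QB : Ideal (𝒟'.B i)) (QA : Ideal (𝒟'.A i)) (_ : QB.IsPrime)
      (_ : QA.IsPrime) (_ : QB.LiesOver p') (_ : QA.LiesOver QB),
      QB.LiesOver (𝒜.qB i) ∧ QA.LiesOver (𝒜.qA i) ∧ FlatCA.PurelyTranscendental p' QB ∧
      (∀ (Q : Ideal (𝒟'.A i)) [Q.IsPrime], Q.LiesOver QB → Q = QA) ∧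
      (∀ (Q : Ideal (𝒟'.B i)) [Q.IsPrime], Q.comap (algebraMap R' (𝒟'.B i)) = p' →
        Q.comap (algebraMap (𝒟.B i) (𝒟'.B i)) = 𝒜.qB i → Q = QB) ∧
      (∀ (Q : Ideal (𝒟'.A i)) [Q.IsPrime], Q.comap (algebraMap R' (𝒟'.A i)) = p' →
        Q.comap (algebraMap (𝒟.A i) (𝒟'.A i)) = 𝒜.qA i → Q = QA) := by
    intro i
    obtain ⟨pA, pB, -⟩ := hball i
    haveI := pA
    haveI := pB
    haveI := 𝒜.hqB i
    haveI := 𝒜.hqA i
    haveI := 𝒜.overB i
    haveI := 𝒜.overA i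
    exact step_at p p' hκ (𝒟.B i) (𝒟.A i) (𝒟'.B i) (𝒟'.A i) (𝒜.qB i) (𝒜.qA i)
      (𝒜.uniq i i.2) (𝒜.pureTrans i i.2)
  choose QB QA hQBp hQAp hQBo hQAo hQBq hQAq hPT huq hcB hcA using hstep
  have hrel : ∀ i : Fin 𝒟.n, FlatCA.SmoothRelDim (𝒜.d i) R' (𝒟'.B i) := by
    intro i
    obtain ⟨pA, pB, -⟩ := hball i
    haveI pB' : Algebra.IsPushout R (𝒟.B i) R' (𝒟'.B i) := Algebra.IsPushout.symm pB
    exact smoothRelDim_of_isPushout (𝒜.d i) R (𝒟.B i) R' (𝒟'.B i) (𝒜.relDim i i.2)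
  have hlocD : ∀ i : Fin 𝒟.n, ∃ (x : PrimeSpectrum (p'.Fiber (𝒟'.B i)))
      (hx : x ∈ Module.support (p'.Fiber (𝒟'.B i)) (FlatCA.fiberMod p' (𝒟'.B i) (𝒟'.M i))),
      x.asIdeal = FlatCA.fiberIdeal p' (QB i) ∧
      FlatMor.localDim (Module.support (p'.Fiber (𝒟'.B i))
        (FlatCA.fiberMod p' (𝒟'.B i) (𝒟'.M i))) ⟨x, hx⟩ = 𝒜.d i := by
    intro i
    obtain ⟨pA, pB, hgM⟩ := hball i
    haveI := pA
    haveI := pB
    haveI := 𝒜.hqB i
    haveI := hQBp i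
    haveI := hQBo i
    haveI := hQBq i
    haveI := 𝒟.smooth i i.2
    haveI : Algebra.FiniteType R (𝒟.B i) := inferInstance
    haveI := 𝒟.finiteBA i i.2
    haveI := 𝒟.finiteM i i.2
    haveI : Module.Finite (𝒟.B i) (𝒟.M i) := Module.Finite.trans (𝒟.A i) (𝒟.M i)
    exact step_locDim p p' hκ (𝒟.B i) (𝒟.A i) (𝒟.M i) (𝒟'.B i) (𝒟'.A i) (𝒟'.M i) (gM i) hgM
      (𝒜.qB i) (QB i) (𝒜.d i) (𝒜.locDim i i.2)
  have hall : ∀ j : ℕ, ∃ (Q : Ideal (𝒟'.B j)) (P : Ideal (𝒟'.A j)), Q.IsPrime ∧ P.IsPrime ∧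
      Q.LiesOver p' ∧ P.LiesOver Q ∧ (∀ h : j < 𝒟.n, Q = QB ⟨j, h⟩ ∧ P = QA ⟨j, h⟩) := by
    intro j
    by_cases hj : j < 𝒟.n
    · exact ⟨QB ⟨j, hj⟩, QA ⟨j, hj⟩, hQBp ⟨j, hj⟩, hQAp ⟨j, hj⟩, hQBo ⟨j, hj⟩, hQAo ⟨j, hj⟩,
        fun h => ⟨rfl, rfl⟩⟩
    · obtain ⟨Q, P, h1, h2, h3, h4⟩ := htail j (not_lt.mp hj)
      exact ⟨Q, P, h1, h2, h3, h4, fun h => absurd h hj⟩
  choose qB' qA' hqB' hqA' hoB' hoA' heq' using hall
  have hn' : ∀ {j : ℕ}, j < 𝒟'.n → j < 𝒟.n := fun h => hn ▸ h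
  -- contraction of the points of the rings of the modules to the base
  have hQAp' : ∀ i : Fin 𝒟.n, (QA i).comap (algebraMap R' (𝒟'.A i)) = p' := by
    intro i
    rw [IsScalarTower.algebraMap_eq R' (𝒟'.B i) (𝒟'.A i), ← Ideal.comap_comap,
      ← Ideal.under_def (𝒟'.B i), ← (hQAo i).over, ← Ideal.under_def R', ← (hQBo i).over]
  refine ⟨{ qB := qB', qA := qA', hqB := hqB', hqA := hqA', overB := hoB', overA := hoA',
            pureTrans := ?_, uniq := ?_, q0 := ?_, qStep := ?_, d := 𝒜.d, relDim := ?_,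
            locDim := ?_ }, rfl, ?_⟩
  · intro j hj
    have hj' := hn' hj
    have key : ∀ (Q : Ideal (𝒟'.B j)) (hQ1 : Q.IsPrime) (hQ2 : Q.LiesOver p'),
        Q = QB ⟨j, hj'⟩ → @FlatCA.PurelyTranscendental R' (𝒟'.B j) _ _ _ p' Q _ hQ1 hQ2 := by
      rintro Q hQ1 hQ2 rfl
      exact hPT ⟨j, hj'⟩
    exact key (qB' j) (hqB' j) (hoB' j) (heq' j hj').1
  · intro j hj Q hQ hQo
    have hj' := hn' hj
    obtain ⟨e1, e2⟩ := heq' j hj'
    rw [e2]
    exact huq ⟨j, hj'⟩ Q (e1 ▸ hQo)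
  · obtain ⟨e1, e2⟩ := heq' 0 𝒟.pos
    rw [e2]
    letI := aA ⟨0, 𝒟.pos⟩
    haveI := hb0
    haveI := hQAp ⟨0, 𝒟.pos⟩
    haveI : ((QA ⟨0, 𝒟.pos⟩).comap (algebraMap S' (𝒟'.A 0))).IsPrime := Ideal.comap_isPrime _ _
    refine prime_unique (T := S) p p' hκ.2 _ q' ?_ (Ideal.LiesOver.over (P := q') (p := p')).symm ?_
    · rw [Ideal.comap_comap, ← IsScalarTower.algebraMap_eq R' S' (𝒟'.A 0)]
      exact hQAp' ⟨0, 𝒟.pos⟩
    · rw [Ideal.comap_comap, ← IsScalarTower.algebraMap_eq S S' (𝒟'.A 0),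
        IsScalarTower.algebraMap_eq S (𝒟.A 0) (𝒟'.A 0), ← Ideal.comap_comap]
      have h1 : (QA ⟨0, 𝒟.pos⟩).comap (algebraMap (𝒟.A 0) (𝒟'.A 0)) = 𝒜.qA 0 :=
        (hQAq ⟨0, 𝒟.pos⟩).over.symm
      rw [h1, 𝒜.q0]
      exact Ideal.LiesOver.over (P := q') (p := q)
  · intro j hj
    have hj1 : j + 1 < 𝒟.n := hn' hj
    have hj0 : j < 𝒟.n := by omega
    obtain ⟨-, e2⟩ := heq' (j + 1) hj1
    obtain ⟨e1, -⟩ := heq' j hj0
    rw [e2, e1]
    letI := aA ⟨j + 1, hj1⟩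
    letI iaB : Algebra (𝒟.B j) (𝒟'.B j) := aB ⟨j, hj0⟩
    letI ibA' : Algebra (𝒟.B j) (𝒟'.A (j + 1)) := bA' ⟨j, hj0⟩
    haveI it7 : IsScalarTower (𝒟.B j) (𝒟'.B j) (𝒟'.A (j + 1)) :=
      inferInstanceAs (IsScalarTower (𝒟.B (⟨j, hj0⟩ : Fin 𝒟.n)) (𝒟'.B (⟨j, hj0⟩ : Fin 𝒟.n))
        (𝒟'.A ((⟨j, hj0⟩ : Fin 𝒟.n) + 1)))
    haveI := hbstep ⟨j, hj0⟩ hj1
    haveI := hQAp ⟨j + 1, hj1⟩
    haveI : ((QA ⟨j + 1, hj1⟩).comap (algebraMap (𝒟'.B j) (𝒟'.A (j + 1)))).IsPrime :=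
      Ideal.comap_isPrime _ _
    refine hcB ⟨j, hj0⟩ _ ?_ ?_
    · rw [Ideal.comap_comap, ← IsScalarTower.algebraMap_eq R' (𝒟'.B j) (𝒟'.A (j + 1))]
      exact hQAp' ⟨j + 1, hj1⟩
    · rw [Ideal.comap_comap]
      have h0 : (algebraMap (𝒟'.B j) (𝒟'.A (j + 1))).comp (algebraMap (𝒟.B j) (𝒟'.B j)) =
          (algebraMap (𝒟.A (j + 1)) (𝒟'.A (j + 1))).comp
            (algebraMap (𝒟.B j) (𝒟.A (j + 1))) := by
        rw [← IsScalarTower.algebraMap_eq (𝒟.B j) (𝒟'.B j) (𝒟'.A (j + 1)),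
          ← IsScalarTower.algebraMap_eq (𝒟.B j) (𝒟.A (j + 1)) (𝒟'.A (j + 1))]
      rw [h0, ← Ideal.comap_comap]
      have h1 : (QA ⟨j + 1, hj1⟩).comap (algebraMap (𝒟.A (j + 1)) (𝒟'.A (j + 1))) =
          𝒜.qA (j + 1) := (hQAq ⟨j + 1, hj1⟩).over.symm
      rw [h1]
      exact 𝒜.qStep j hj1
  · intro j hj
    exact hrel ⟨j, hn' hj⟩
  · intro j hj
    have hj' := hn' hj
    obtain ⟨e1, -⟩ := heq' j hj'
    rw [e1]
    exact hlocD ⟨j, hj'⟩
  · intro i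
    obtain ⟨e1, e2⟩ := heq' i i.2
    show (qB' i).LiesOver (𝒜.qB i) ∧ (qA' i).LiesOver (𝒜.qA i)
    rw [e1, e2]
    exact ⟨hQBq i, hQAq i⟩

end Groth.Agent.Helper7.OneStep
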