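import Mathlib
import Groth.Prelude
import Groth.Agent.Lib.Helper7.OneStep.AtBC

/-!
# helper7: one-step devissage under localization, part 1

The purely algebraic parts from pushout squares, and smoothness and geometric irreducibility of
the localized smooth algebra.
-/

set_option linter.style.haveILetI false
set_option linter.unusedVariables false
set_option linter.unusedSectionVars false
set_option autoImplicit false
set_option backward.isDefEq.respectTransparency.types false
set_option synthInstance.maxHeartbeats 400000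
set_option maxHeartbeats 1600000

universe u

open TensorProduct CategoryTheory CategoryTheory.Limits AlgebraicGeometry

namespace Groth.Agent.Helper7.OneStep

attribute [local instance] Algebra.TensorProduct.rightAlgebra

/-- a one-step devissage from two pushout squares and the three fibrewise facts -/
theorem oneStep_of_pushouts
    (R S : Type u) [CommRing R] [CommRing S] [Algebra R S]
    (N : Type u) [AddCommGroup N] [Module S N] [Module R N] [IsScalarTower R S N]
    (p : Ideal R) [p.IsPrime]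
    (C D G : Type u) [CommRing C] [CommRing D] [Algebra S C] [Algebra R C] [IsScalarTower R S C]
    [Algebra R D] [Algebra D C] [IsScalarTower R D C] [AddCommGroup G] [Module C G] [Module S G]
    [IsScalarTower S C G] (n : ℕ)
    (h : FlatCA.IsOneStepDevissage R S N p C D G n)
    (R₁ : Type u) [CommRing R₁] (p₁ : Ideal R₁) [p₁.IsPrime]
    (S₁ C₁ D₁ : Type u) [CommRing S₁] [CommRing C₁] [CommRing D₁]
    [Algebra R₁ S₁] [Algebra S S₁] [Algebra R₁ C₁] [Algebra C C₁] [Algebra R₁ D₁] [Algebra D D₁]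
    [Algebra S₁ C₁] [IsScalarTower R₁ S₁ C₁] [Algebra S C₁] [IsScalarTower S S₁ C₁]
    [IsScalarTower S C C₁]
    [Algebra D₁ C₁] [IsScalarTower R₁ D₁ C₁] [Algebra D C₁] [IsScalarTower D D₁ C₁]
    [IsScalarTower D C C₁]
    [pSC : Algebra.IsPushout S C S₁ C₁] [pDC : Algebra.IsPushout D C D₁ C₁]
    (N₁ : Type u) [AddCommGroup N₁] [Module S₁ N₁] [Module R₁ N₁] [IsScalarTower R₁ S₁ N₁]
    [Module S N₁] [IsScalarTower S S₁ N₁] (f : N →ₗ[S] N₁) (hf : IsBaseChange S₁ f)
    (G₁ : Type u) [AddCommGroup G₁] [Module C₁ G₁] [Module S₁ G₁] [IsScalarTower S₁ C₁ G₁]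
    [Module C G₁] [IsScalarTower C C₁ G₁] (g : G →ₗ[C] G₁) (hg : IsBaseChange C₁ g)
    (hsm : FlatCA.SmoothRelDim n R₁ D₁) (hgi : FlatCA.GeomIrredFibres R₁ D₁)
    (hdim : Module.supportDim (p₁.Fiber S₁) (FlatCA.fiberMod p₁ S₁ N₁) = n) :
    FlatCA.IsOneStepDevissage R₁ S₁ N₁ p₁ C₁ D₁ G₁ n := by
  obtain ⟨⟨e⟩, hsurj, hfp, hfinDC, hfinCG, -, -, -⟩ := h
  haveI pSC' : Algebra.IsPushout S S₁ C C₁ := Algebra.IsPushout.symm pSC
  haveI pDC' : Algebra.IsPushout D D₁ C C₁ := Algebra.IsPushout.symm pDC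
  refine ⟨?_, ?_, ?_, ?_, ?_, hsm, hgi, hdim⟩
  · letI mSG' : Module S G₁ := Module.compHom G₁ (algebraMap S S₁)
    haveI t1 : IsScalarTower S S₁ G₁ := ⟨fun s s' x => by
      change (s • s') • x = algebraMap S S₁ s • (s' • x)
      rw [Algebra.smul_def, mul_smul]⟩
    haveI t2 : IsScalarTower S C G₁ := ⟨fun s c x => by
      change (s • c) • x = algebraMap S S₁ s • (c • x)
      rw [Algebra.smul_def, mul_smul, ← algebraMap_smul C₁ (algebraMap S C s) (c • x),
        ← IsScalarTower.algebraMap_apply S C C₁, IsScalarTower.algebraMap_apply S S₁ C₁,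
        algebraMap_smul]⟩
    have hgS : IsBaseChange S₁ (g.restrictScalars S) :=
      Groth.Agent.Helper7.ImpDesc.isBaseChange_restrict G S₁ C₁ G₁ g hg
    exact ⟨hf.equiv.symm ≪≫ₗ
      (TensorProduct.AlgebraTensorModule.congr (LinearEquiv.refl S₁ S₁) e) ≪≫ₗ hgS.equiv⟩
  · intro c'
    have hbc : IsBaseChange S₁ (IsScalarTower.toAlgHom S C C₁).toLinearMap := pSC'.out
    refine hbc.inductionOn c' (fun c' => ∃ s', algebraMap S₁ C₁ s' = c') ⟨0, map_zero _⟩ ?_ ?_ ?_
    · intro c
      obtain ⟨s, rfl⟩ := hsurj c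
      refine ⟨algebraMap S S₁ s, ?_⟩
      change _ = algebraMap C C₁ (algebraMap S C s)
      rw [← IsScalarTower.algebraMap_apply S S₁ C₁, ← IsScalarTower.algebraMap_apply S C C₁]
    · rintro s' x ⟨t, rfl⟩
      exact ⟨s' * t, by rw [map_mul, Algebra.smul_def]⟩
    · rintro x y ⟨a, rfl⟩ ⟨b, rfl⟩
      exact ⟨a + b, map_add _ _ _⟩
  · haveI := hfp
    exact Algebra.FinitePresentation.equiv (Algebra.IsPushout.equiv S S₁ C C₁)
  · haveI := hfinDC
    exact Module.Finite.equiv (Algebra.IsPushout.equiv D D₁ C C₁).toLinearEquiv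
  · haveI := hfinCG
    exact Module.Finite.equiv hg.equiv

section Loc

variable (R D R₁ D₁ : Type u) [CommRing R] [CommRing D] [CommRing R₁] [CommRing D₁]
  [Algebra R R₁] [Algebra R D] [Algebra R₁ D₁] [Algebra D D₁] [Algebra R D₁]
  [IsScalarTower R R₁ D₁] [IsScalarTower R D D₁]
  (g : R) [IsLocalization.Away g R₁] (hY : D) [IsLocalization.Away hY D₁]

include g hY

theorem specMap_comm :
    Spec.map (CommRingCat.ofHom (algebraMap R₁ D₁)) ≫ Spec.map (CommRingCat.ofHom (algebraMap R R₁)) =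
      Spec.map (CommRingCat.ofHom (algebraMap D D₁)) ≫
        Spec.map (CommRingCat.ofHom (algebraMap R D)) := by
  rw [← Spec.map_comp, ← Spec.map_comp, ← CommRingCat.ofHom_comp, ← CommRingCat.ofHom_comp,
    ← IsScalarTower.algebraMap_eq R R₁ D₁, ← IsScalarTower.algebraMap_eq R D D₁]

theorem smoothRelDim_of_isLocalization (n : ℕ) (h : FlatCA.SmoothRelDim n R D) :
    FlatCA.SmoothRelDim n R₁ D₁ := by
  haveI i1 : IsOpenImmersion (Spec.map (CommRingCat.ofHom (algebraMap R R₁))) :=
    IsOpenImmersion.of_isLocalization g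
  haveI i2 : IsOpenImmersion (Spec.map (CommRingCat.ofHom (algebraMap D D₁))) :=
    IsOpenImmersion.of_isLocalization hY
  haveI i3 : SmoothOfRelativeDimension n (Spec.map (CommRingCat.ofHom (algebraMap R D))) := h
  have h2 : SmoothOfRelativeDimension (0 + n)
      (Spec.map (CommRingCat.ofHom (algebraMap D D₁)) ≫
        Spec.map (CommRingCat.ofHom (algebraMap R D))) := inferInstance
  rw [zero_add, ← specMap_comm R D R₁ D₁ g hY] at h2
  haveI := smoothOfRelativeDimension_isStableUnderBaseChange n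
  exact MorphismProperty.of_postcomp (W := @SmoothOfRelativeDimension n)
    (W' := MorphismProperty.monomorphisms Scheme) _
    (Spec.map (CommRingCat.ofHom (algebraMap R R₁))) (inferInstance : Mono _) h2

theorem geomIrred_of_isLocalization
    (hsurj : Function.Surjective (PrimeSpectrum.comap (algebraMap R₁ D₁)))
    (h : FlatCA.GeomIrredFibres R D) : FlatCA.GeomIrredFibres R₁ D₁ := by
  haveI i1 : IsOpenImmersion (Spec.map (CommRingCat.ofHom (algebraMap R R₁))) :=
    IsOpenImmersion.of_isLocalization g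
  haveI i2 : IsOpenImmersion (Spec.map (CommRingCat.ofHom (algebraMap D D₁))) :=
    IsOpenImmersion.of_isLocalization hY
  haveI i3 : GeometricallyIrreducible (Spec.map (CommRingCat.ofHom (algebraMap R D))) := h
  obtain ⟨f, hf⟩ : ∃ f, f = Spec.map (CommRingCat.ofHom (algebraMap R D)) := ⟨_, rfl⟩
  obtain ⟨f₁, hf₁⟩ : ∃ f₁, f₁ = Spec.map (CommRingCat.ofHom (algebraMap R₁ D₁)) := ⟨_, rfl⟩
  obtain ⟨jR, hjR⟩ : ∃ jR, jR = Spec.map (CommRingCat.ofHom (algebraMap R R₁)) := ⟨_, rfl⟩
  obtain ⟨jD, hjD⟩ : ∃ jD, jD = Spec.map (CommRingCat.ofHom (algebraMap D D₁)) := ⟨_, rfl⟩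
  have hcomm : jD ≫ f = f₁ ≫ jR := by
    rw [hf, hf₁, hjR, hjD]
    exact (specMap_comm R D R₁ D₁ g hY).symm
  rw [← hjR] at i1
  rw [← hjD] at i2
  rw [← hf] at i3
  have h1 : pullback.lift jD f₁ hcomm ≫ pullback.fst f jR = jD := pullback.lift_fst _ _ _
  have h2 : pullback.lift jD f₁ hcomm ≫ pullback.snd f jR = f₁ := pullback.lift_snd _ _ _
  haveI : IsOpenImmersion (pullback.lift jD f₁ hcomm ≫ pullback.fst f jR) := by
    rw [h1]
    exact i2
  haveI : IsOpenImmersion (pullback.lift jD f₁ hcomm) :=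
    IsOpenImmersion.of_comp (pullback.lift jD f₁ hcomm) (pullback.fst f jR)
  haveI : Surjective (pullback.lift jD f₁ hcomm ≫ pullback.snd f jR) := by
    rw [h2, hf₁]
    exact (surjective_iff _).mpr hsurj
  have h3 : GeometricallyIrreducible (pullback.lift jD f₁ hcomm ≫ pullback.snd f jR) :=
    inferInstance
  rw [h2, hf₁] at h3
  exact h3

end Loc

end Groth.Agent.Helper7.OneStep
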