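import Mathlib
import Groth.Prelude
import Groth.Agent.Lib.Helper7.OneStep.Loc1

/-!
# helper7: one-step devissage under localization, part 2

The support of the fibre module after localizing the base and the algebra: dimension and local
dimension at the point.
-/

set_option linter.style.haveILetI false
set_option linter.unusedVariables false
set_option linter.unusedSectionVars false
set_option autoImplicit false
set_option backward.isDefEq.respectTransparency.types false
set_option synthInstance.maxHeartbeats 400000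
set_option maxHeartbeats 1600000

universe u

open TensorProduct

namespace Groth.Agent.Helper7.OneStep

attribute [local instance] Algebra.TensorProduct.rightAlgebra

/-- the dimension of a closed subset of a spectrum, topologically and order theoretically -/
theorem topKrullDim_zeroLocus (A : Type u) [CommRing A] (J : Ideal A) :
    topologicalKrullDim ↥(PrimeSpectrum.zeroLocus (J : Set A)) =
      Order.krullDim ↥(PrimeSpectrum.zeroLocus (J : Set A)) := by
  have hsurj : Function.Surjective (Ideal.Quotient.mk J) := Ideal.Quotient.mk_surjective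
  have emb := PrimeSpectrum.isClosedEmbedding_comap_of_surjective (A ⧸ J) (Ideal.Quotient.mk J) hsurj
  have hrange : Set.range (PrimeSpectrum.comap (Ideal.Quotient.mk J)) =
      PrimeSpectrum.zeroLocus (J : Set A) := by
    rw [range_comap_of_surjective _ _ hsurj, Ideal.mk_ker]
  have h1 := (emb.isEmbedding.toHomeomorph).isHomeomorph.topologicalKrullDim_eq
  rw [hrange] at h1
  rw [← h1, PrimeSpectrum.topologicalKrullDim_eq_ringKrullDim, ringKrullDim_quotient]

/-- the local dimension is at most the dimension -/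
theorem localDim_le_topKrullDim (X : Type u) [TopologicalSpace X] (x : X) :
    FlatMor.localDim X x ≤ topologicalKrullDim X := by
  unfold FlatMor.localDim
  refine (iInf_le _ (⟨⊤, trivial⟩ : {U : TopologicalSpace.Opens X // x ∈ U})).trans ?_
  have h1 := (Homeomorph.Set.univ X).isHomeomorph.topologicalKrullDim_eq
  rw [← h1]
  rfl

section FibTop

variable {R S : Type u} [CommRing R] [CommRing S] [Algebra R S] (p : Ideal R) [p.IsPrime]

/-- points of the fibre ring whose contraction lies in `T` -/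
def fibSet (T : Set (PrimeSpectrum S)) : Set (PrimeSpectrum (p.Fiber S)) :=
  {x | PrimeSpectrum.comap (algebraMap S (p.Fiber S)) x ∈ T}

/-- primes over `p` lying in `T` -/
def overSet (T : Set (PrimeSpectrum S)) : Set (PrimeSpectrum S) :=
  {Q | Q.asIdeal.comap (algebraMap R S) = p ∧ Q ∈ T}

theorem comap_comap_fiber (x : PrimeSpectrum (p.Fiber S)) :
    (PrimeSpectrum.comap (algebraMap S (p.Fiber S)) x).asIdeal.comap (algebraMap R S) = p := by
  have h : x.asIdeal.LiesOver p := inferInstance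
  rw [PrimeSpectrum.comap_asIdeal, Ideal.comap_comap, ← IsScalarTower.algebraMap_eq R S (p.Fiber S)]
  exact h.over.symm

theorem comap_preimageEquivFiber (Q : PrimeSpectrum S) (hQ : Q.asIdeal.comap (algebraMap R S) = p) :
    PrimeSpectrum.comap (algebraMap S (p.Fiber S))
      (PrimeSpectrum.preimageEquivFiber R S ⟨p, inferInstance⟩ ⟨Q, PrimeSpectrum.ext hQ⟩) = Q :=
  congrArg Subtype.val ((PrimeSpectrum.preimageEquivFiber R S ⟨p, inferInstance⟩).symm_apply_apply
    ⟨Q, PrimeSpectrum.ext hQ⟩)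

theorem preimageEquivFiber_comap (x : PrimeSpectrum (p.Fiber S)) :
    PrimeSpectrum.preimageEquivFiber R S ⟨p, inferInstance⟩
      ⟨PrimeSpectrum.comap (algebraMap S (p.Fiber S)) x,
        PrimeSpectrum.ext (comap_comap_fiber p x)⟩ = x :=
  (PrimeSpectrum.preimageEquivFiber R S ⟨p, inferInstance⟩).apply_symm_apply x

theorem mem_fibSet_preimageEquivFiber (T : Set (PrimeSpectrum S)) (Q : overSet p T) :
    PrimeSpectrum.preimageEquivFiber R S ⟨p, inferInstance⟩ ⟨Q.1, PrimeSpectrum.ext Q.2.1⟩ ∈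
      fibSet p T := by
  show PrimeSpectrum.comap _ _ ∈ T
  rw [comap_preimageEquivFiber p Q.1 Q.2.1]
  exact Q.2.2

/-- the support-like subsets of the fibre ring and of the primes over `p` are homeomorphic -/
noncomputable def fibHomeo (T : Set (PrimeSpectrum S)) : fibSet p T ≃ₜ overSet p T where
  toFun x := ⟨PrimeSpectrum.comap (algebraMap S (p.Fiber S)) x.1, comap_comap_fiber p x.1, x.2⟩
  invFun Q := ⟨PrimeSpectrum.preimageEquivFiber R S ⟨p, inferInstance⟩
      ⟨Q.1, PrimeSpectrum.ext Q.2.1⟩, mem_fibSet_preimageEquivFiber p T Q⟩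
  left_inv x := Subtype.ext (preimageEquivFiber_comap p x.1)
  right_inv Q := Subtype.ext (comap_preimageEquivFiber p Q.1 Q.2.1)
  continuous_toFun :=
    Continuous.subtype_mk ((PrimeSpectrum.continuous_comap _).comp continuous_subtype_val) _
  continuous_invFun :=
    Continuous.subtype_mk ((PrimeSpectrum.preimageHomeomorphFiber R S
      ⟨p, inferInstance⟩).continuous.comp (Continuous.subtype_mk continuous_subtype_val _)) _

theorem fibHomeo_apply_coe (T : Set (PrimeSpectrum S)) (x : fibSet p T) :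
    (fibHomeo p T x).1 = PrimeSpectrum.comap (algebraMap S (p.Fiber S)) x.1 := rfl

theorem fibHomeo_mono (T : Set (PrimeSpectrum S)) : Monotone (fibHomeo p T) := by
  intro x y hxy
  show (PrimeSpectrum.comap (algebraMap S (p.Fiber S)) x.1).asIdeal ≤
    (PrimeSpectrum.comap (algebraMap S (p.Fiber S)) y.1).asIdeal
  exact Ideal.comap_mono hxy

theorem fibHomeo_symm_mono (T : Set (PrimeSpectrum S)) : Monotone (fibHomeo p T).symm := by
  intro Q Q' hQ
  exact (PrimeSpectrum.preimageOrderIsoFiber R S ⟨p, inferInstance⟩).monotone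
    (show (⟨Q.1, PrimeSpectrum.ext Q.2.1⟩ :
      ↥(PrimeSpectrum.comap (algebraMap R S) ⁻¹' {(⟨p, inferInstance⟩ : PrimeSpectrum R)})) ≤
      ⟨Q'.1, PrimeSpectrum.ext Q'.2.1⟩ from hQ)

/-- a prime of the fibre ring is extended from its contraction -/
theorem asIdeal_eq_map_comap (x : PrimeSpectrum (p.Fiber S)) :
    x.asIdeal = (x.asIdeal.comap (algebraMap S (p.Fiber S))).map (algebraMap S (p.Fiber S)) := by
  apply le_antisymm
  · intro a ha
    obtain ⟨r, hr, s, e⟩ := Ideal.Fiber.exists_smul_eq_one_tmul p a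
    have hu : IsUnit (algebraMap R (p.Fiber S) r) := by
      rw [IsScalarTower.algebraMap_apply R p.ResidueField (p.Fiber S)]
      exact (isUnit_iff_ne_zero.mpr
        (fun h0 => hr (Ideal.algebraMap_residueField_eq_zero.mp h0))).map _
    have hs : algebraMap S (p.Fiber S) s ∈ x.asIdeal := by
      have h1 : algebraMap S (p.Fiber S) s = r • a := e.symm
      rw [h1, Algebra.smul_def]
      exact Ideal.mul_mem_left _ _ ha
    obtain ⟨w, hw⟩ := hu
    have e2 : a = ↑w⁻¹ * algebraMap S (p.Fiber S) s := by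
      have h1 : algebraMap S (p.Fiber S) s = r • a := e.symm
      rw [h1, Algebra.smul_def, ← hw, ← mul_assoc, Units.inv_mul, one_mul]
    rw [e2]
    exact Ideal.mul_mem_left _ _ (Ideal.mem_map_of_mem _ hs)
  · exact Ideal.map_comap_le

end FibTop

/-- membership in the support of the fibre module after localization, seen downstairs -/
theorem support_loc_core (S S₁ F₁ : Type u) [CommRing S] [CommRing S₁] [CommRing F₁]
    [Algebra S S₁] [Algebra S₁ F₁] [Algebra S F₁] [IsScalarTower S S₁ F₁]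
    (N : Type u) [AddCommGroup N] [Module S N] [Module.Finite S N]
    (N₁ : Type u) [AddCommGroup N₁] [Module S₁ N₁] [Module S N₁] [IsScalarTower S S₁ N₁]
    (f : N →ₗ[S] N₁) (hf : IsBaseChange S₁ f) (x : PrimeSpectrum F₁) :
    x ∈ Module.support F₁ (F₁ ⊗[S₁] N₁) ↔
      Module.annihilator S N ≤
        (x.asIdeal.comap (algebraMap S₁ F₁)).comap (algebraMap S S₁) := by
  have e : F₁ ⊗[S₁] N₁ ≃ₗ[F₁] F₁ ⊗[S] N :=
    (TensorProduct.AlgebraTensorModule.congr (LinearEquiv.refl F₁ F₁) hf.equiv.symm) ≪≫ₗ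
      TensorProduct.AlgebraTensorModule.cancelBaseChange S S₁ F₁ F₁ N
  rw [LinearEquiv.support_eq e, Groth.Agent.Helper7.FibSupp.mem_support_baseChange_iff,
    Ideal.comap_comap, ← IsScalarTower.algebraMap_eq S S₁ F₁]

section LocTop

variable {R S R₁ S₁ : Type u} [CommRing R] [CommRing S] [CommRing R₁] [CommRing S₁]
  [Algebra R S] [Algebra R R₁] [Algebra S S₁] [Algebra R₁ S₁] [Algebra R S₁]
  [IsScalarTower R R₁ S₁] [IsScalarTower R S S₁]
  (g : R) [IsLocalization.Away g R₁] (hX : S) [IsLocalization.Away hX S₁]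
  (p : Ideal R) [p.IsPrime] (hg : g ∉ p)

include g hg in
theorem map_isPrime_of_notMem : (p.map (algebraMap R R₁)).IsPrime :=
  IsLocalization.isPrime_of_isPrime_disjoint (Submonoid.powers g) R₁ p inferInstance
    ((Ideal.disjoint_powers_iff_notMem_of_isPrime g).mpr hg)

include g hg in
theorem under_map_of_notMem : (p.map (algebraMap R R₁)).comap (algebraMap R R₁) = p :=
  IsLocalization.under_map_of_isPrime_disjoint (Submonoid.powers g) R₁ inferInstance
    ((Ideal.disjoint_powers_iff_notMem_of_isPrime g).mpr hg)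

include g hg in
/-- lying over the extended prime, seen downstairs -/
theorem over_map_iff (Q₁ : Ideal S₁) :
    Q₁.comap (algebraMap R₁ S₁) = p.map (algebraMap R R₁) ↔
      (Q₁.comap (algebraMap S S₁)).comap (algebraMap R S) = p := by
  have e : (Q₁.comap (algebraMap S S₁)).comap (algebraMap R S) =
      (Q₁.comap (algebraMap R₁ S₁)).comap (algebraMap R R₁) := by
    rw [Ideal.comap_comap, Ideal.comap_comap, ← IsScalarTower.algebraMap_eq R S S₁,
      ← IsScalarTower.algebraMap_eq R R₁ S₁]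
  rw [e]
  constructor
  · intro h
    rw [h]
    exact under_map_of_notMem g p hg
  · intro h
    rw [← h]
    exact (IsLocalization.map_under (Submonoid.powers g) R₁ _).symm

variable [hp₁ : (p.map (algebraMap R R₁)).IsPrime]

include g hg hX in
/-- the comparison map between primes over the extended prime and primes over `p` -/
theorem exists_locMap (T : Set (PrimeSpectrum S)) :
    ∃ j : overSet (p.map (algebraMap R R₁)) (PrimeSpectrum.comap (algebraMap S S₁) ⁻¹' T) →
        overSet p T,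
      Topology.IsOpenEmbedding j ∧ Monotone j ∧
      ∀ Q₁, (j Q₁).1 = PrimeSpectrum.comap (algebraMap S S₁) Q₁.1 := by
  have hc := PrimeSpectrum.localization_away_isOpenEmbedding S₁ hX
  have heq : overSet (p.map (algebraMap R R₁)) (PrimeSpectrum.comap (algebraMap S S₁) ⁻¹' T) =
      PrimeSpectrum.comap (algebraMap S S₁) ⁻¹' overSet p T := by
    ext Q₁
    constructor
    · rintro ⟨h1, h2⟩
      exact ⟨(over_map_iff g p hg Q₁.asIdeal).mp h1, h2⟩
    · rintro ⟨h1, h2⟩
      exact ⟨(over_map_iff g p hg Q₁.asIdeal).mpr h1, h2⟩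
  have e := Set.restrictPreimage_isOpenEmbedding (overSet p T) hc
  refine ⟨(overSet p T).restrictPreimage (PrimeSpectrum.comap (algebraMap S S₁)) ∘
    (Homeomorph.setCongr heq), e.comp (Homeomorph.setCongr heq).isOpenEmbedding, ?_, fun Q₁ => rfl⟩
  intro Q₁ Q₂ h
  show (PrimeSpectrum.comap (algebraMap S S₁) Q₁.1).asIdeal ≤
    (PrimeSpectrum.comap (algebraMap S S₁) Q₂.1).asIdeal
  exact Ideal.comap_mono h

include g hg hX in
/-- the core comparison of dimensions -/
theorem loc_core (T : Set (PrimeSpectrum S)) (n : ℕ)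
    (Z : Set (PrimeSpectrum (p.Fiber S))) (hZ : Z = fibSet p T)
    (Z₁ : Set (PrimeSpectrum ((p.map (algebraMap R R₁)).Fiber S₁)))
    (hZ₁ : Z₁ = fibSet (p.map (algebraMap R R₁)) (PrimeSpectrum.comap (algebraMap S S₁) ⁻¹' T))
    (hbr : topologicalKrullDim ↥Z₁ = Order.krullDim ↥Z₁)
    (hdim : Order.krullDim ↥Z = n)
    (q : Ideal S) [q.IsPrime] (hqp : q.comap (algebraMap R S) = p) (hhX : hX ∉ q)
    (ξ : PrimeSpectrum (p.Fiber S)) (hξ : ξ ∈ Z)
    (hξq : ξ.asIdeal = q.map (algebraMap S (p.Fiber S)))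
    (hloc : FlatMor.localDim ↥Z ⟨ξ, hξ⟩ = n) :
    Order.krullDim ↥Z₁ = n ∧
    ∃ (ξ₁ : PrimeSpectrum ((p.map (algebraMap R R₁)).Fiber S₁)) (hξ₁ : ξ₁ ∈ Z₁),
      ξ₁.asIdeal = (q.map (algebraMap S S₁)).map
        (algebraMap S₁ ((p.map (algebraMap R R₁)).Fiber S₁)) ∧
      FlatMor.localDim ↥Z₁ ⟨ξ₁, hξ₁⟩ = n := by
  subst hZ hZ₁
  obtain ⟨j, hj, hjm, hjv⟩ := exists_locMap (R₁ := R₁) (S₁ := S₁) g hX p hg T
  -- the prime of `S` attached to `ξ`
  have hQ : (PrimeSpectrum.comap (algebraMap S (p.Fiber S)) ξ) = ⟨q, inferInstance⟩ := by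
    have h1 := asIdeal_eq_map_comap p
      (PrimeSpectrum.preimageEquivFiber R S ⟨p, inferInstance⟩
        ⟨⟨q, inferInstance⟩, PrimeSpectrum.ext hqp⟩)
    have h2 := comap_preimageEquivFiber p ⟨q, inferInstance⟩ hqp
    have h3 : (PrimeSpectrum.preimageEquivFiber R S ⟨p, inferInstance⟩
        ⟨⟨q, inferInstance⟩, PrimeSpectrum.ext hqp⟩) = ξ := by
      apply PrimeSpectrum.ext
      rw [h1, hξq]
      congr 1
      exact congrArg PrimeSpectrum.asIdeal h2
    rw [← h3]
    exact h2
  -- the prime of `S₁`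
  have hdisj : Disjoint (↑(Submonoid.powers hX) : Set S) (↑q : Set S) :=
    (Ideal.disjoint_powers_iff_notMem_of_isPrime hX).mpr hhX
  haveI hq₁ : (q.map (algebraMap S S₁)).IsPrime :=
    IsLocalization.isPrime_of_isPrime_disjoint (Submonoid.powers hX) S₁ q inferInstance hdisj
  have hq₁c : (q.map (algebraMap S S₁)).comap (algebraMap S S₁) = q :=
    IsLocalization.under_map_of_isPrime_disjoint (Submonoid.powers hX) S₁ inferInstance hdisj
  have hcQ : PrimeSpectrum.comap (algebraMap S S₁) ⟨q.map (algebraMap S S₁), hq₁⟩ =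
      (⟨q, inferInstance⟩ : PrimeSpectrum S) := PrimeSpectrum.ext hq₁c
  have hmem : (⟨q.map (algebraMap S S₁), hq₁⟩ : PrimeSpectrum S₁) ∈
      overSet (p.map (algebraMap R R₁)) (PrimeSpectrum.comap (algebraMap S S₁) ⁻¹' T) := by
    refine ⟨(over_map_iff (R₁ := R₁) (S := S) (S₁ := S₁) g p hg _).mpr ?_, ?_⟩
    · show ((q.map (algebraMap S S₁)).comap (algebraMap S S₁)).comap (algebraMap R S) = p
      rw [hq₁c, hqp]
    · show PrimeSpectrum.comap (algebraMap S S₁) _ ∈ T
      rw [hcQ, ← hQ]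
      exact hξ
  obtain ⟨H, hH⟩ : ∃ H : fibSet p T ≃ₜ overSet p T, H = fibHomeo p T := ⟨_, rfl⟩
  obtain ⟨H₁, hH₁⟩ : ∃ H₁ : fibSet (p.map (algebraMap R R₁))
      (PrimeSpectrum.comap (algebraMap S S₁) ⁻¹' T) ≃ₜ
      overSet (p.map (algebraMap R R₁)) (PrimeSpectrum.comap (algebraMap S S₁) ⁻¹' T),
      H₁ = fibHomeo (p.map (algebraMap R R₁)) (PrimeSpectrum.comap (algebraMap S S₁) ⁻¹' T) :=
    ⟨_, rfl⟩
  have hJ : Topology.IsOpenEmbedding (H.symm ∘ j ∘ H₁) :=
    H.symm.isOpenEmbedding.comp (hj.comp H₁.isOpenEmbedding)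
  have hJm : StrictMono (H.symm ∘ j ∘ H₁) := by
    apply Monotone.strictMono_of_injective _ hJ.injective
    rw [hH, hH₁]
    exact (fibHomeo_symm_mono p T).comp (hjm.comp (fibHomeo_mono _ _))
  -- the point upstairs
  obtain ⟨x₁, hx₁⟩ : ∃ x₁, x₁ = H₁.symm ⟨⟨q.map (algebraMap S S₁), hq₁⟩, hmem⟩ := ⟨_, rfl⟩
  have hx₁c : PrimeSpectrum.comap (algebraMap S₁ ((p.map (algebraMap R R₁)).Fiber S₁)) x₁.1 =
      ⟨q.map (algebraMap S S₁), hq₁⟩ := by
    have h1 : H₁ x₁ = ⟨⟨q.map (algebraMap S S₁), hq₁⟩, hmem⟩ := by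
      rw [hx₁, Homeomorph.apply_symm_apply]
    rw [hH₁] at h1
    exact congrArg Subtype.val h1
  have hJx : (H.symm ∘ j ∘ H₁) x₁ = ⟨ξ, hξ⟩ := by
    show H.symm (j (H₁ x₁)) = _
    rw [Homeomorph.symm_apply_eq]
    apply Subtype.ext
    rw [hjv, hH, fibHomeo_apply_coe, hH₁, fibHomeo_apply_coe, hx₁c, hcQ]
    exact hQ.symm
  have hloc₁ : FlatMor.localDim
      ↥(fibSet (p.map (algebraMap R R₁)) (PrimeSpectrum.comap (algebraMap S S₁) ⁻¹' T)) x₁ = n := by
    rw [Groth.Agent.Lib.Helper5.SmFib.localDim_openEmbedding _ hJ x₁, hJx]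
    exact hloc
  refine ⟨le_antisymm ?_ ?_, x₁.1, x₁.2, ?_, hloc₁⟩
  · rw [← hdim]
    exact Order.krullDim_le_of_strictMono _ hJm
  · rw [← hbr, ← hloc₁]
    exact localDim_le_topKrullDim _ _
  · rw [asIdeal_eq_map_comap (p.map (algebraMap R R₁)) x₁.1]
    congr 1
    exact congrArg PrimeSpectrum.asIdeal hx₁c

include g hg hX in
/-- the fibre support after localizing the base and the algebra: dimension and local dimension -/
theorem loc_fiber
    (N : Type u) [AddCommGroup N] [Module S N] [Module R N] [IsScalarTower R S N]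
    [Module.Finite S N]
    (N₁ : Type u) [AddCommGroup N₁] [Module S₁ N₁] [Module R₁ N₁] [IsScalarTower R₁ S₁ N₁]
    [Module S N₁] [IsScalarTower S S₁ N₁] (f : N →ₗ[S] N₁) (hf : IsBaseChange S₁ f)
    (n : ℕ) (hdim : Module.supportDim (p.Fiber S) (FlatCA.fiberMod p S N) = n)
    (q : Ideal S) [q.IsPrime] (hqp : q.comap (algebraMap R S) = p) (hhX : hX ∉ q)
    (ξ : PrimeSpectrum (p.Fiber S))
    (hξ : ξ ∈ Module.support (p.Fiber S) (FlatCA.fiberMod p S N))
    (hξq : ξ.asIdeal = FlatCA.fiberIdeal p q)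
    (hloc : FlatMor.localDim (Module.support (p.Fiber S) (FlatCA.fiberMod p S N)) ⟨ξ, hξ⟩ = n) :
    Module.supportDim ((p.map (algebraMap R R₁)).Fiber S₁)
        (FlatCA.fiberMod (p.map (algebraMap R R₁)) S₁ N₁) = n ∧
    ∃ (ξ₁ : PrimeSpectrum ((p.map (algebraMap R R₁)).Fiber S₁))
      (hξ₁ : ξ₁ ∈ Module.support ((p.map (algebraMap R R₁)).Fiber S₁)
        (FlatCA.fiberMod (p.map (algebraMap R R₁)) S₁ N₁)),
      ξ₁.asIdeal = FlatCA.fiberIdeal (p.map (algebraMap R R₁)) (q.map (algebraMap S S₁)) ∧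
      FlatMor.localDim (Module.support ((p.map (algebraMap R R₁)).Fiber S₁)
        (FlatCA.fiberMod (p.map (algebraMap R R₁)) S₁ N₁)) ⟨ξ₁, hξ₁⟩ = n := by
  obtain ⟨T, hT⟩ : ∃ T : Set (PrimeSpectrum S), T = {Q | Module.annihilator S N ≤ Q.asIdeal} :=
    ⟨_, rfl⟩
  letI aSF₁ : Algebra S ((p.map (algebraMap R R₁)).Fiber S₁) :=
    ((algebraMap S₁ ((p.map (algebraMap R R₁)).Fiber S₁)).comp (algebraMap S S₁)).toAlgebra
  haveI tSF₁ : IsScalarTower S S₁ ((p.map (algebraMap R R₁)).Fiber S₁) :=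
    IsScalarTower.of_algebraMap_eq fun s => rfl
  have hZ : Module.support (p.Fiber S) (FlatCA.fiberMod p S N) = fibSet p T := by
    rw [hT]
    ext x
    exact Groth.Agent.Helper7.FibSupp.mem_support_baseChange_iff N x
  have hZ₁ : Module.support ((p.map (algebraMap R R₁)).Fiber S₁)
      (FlatCA.fiberMod (p.map (algebraMap R R₁)) S₁ N₁) =
      fibSet (p.map (algebraMap R R₁)) (PrimeSpectrum.comap (algebraMap S S₁) ⁻¹' T) := by
    rw [hT]
    ext x
    exact support_loc_core S S₁ ((p.map (algebraMap R R₁)).Fiber S₁) N N₁ f hf x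
  have hs₁ : Module.support ((p.map (algebraMap R R₁)).Fiber S₁)
      (FlatCA.fiberMod (p.map (algebraMap R R₁)) S₁ N₁) =
      PrimeSpectrum.zeroLocus
        ((((Module.annihilator S N).map (algebraMap S S₁)).map
          (algebraMap S₁ ((p.map (algebraMap R R₁)).Fiber S₁)) :
          Ideal ((p.map (algebraMap R R₁)).Fiber S₁)) :
          Set ((p.map (algebraMap R R₁)).Fiber S₁)) := by
    ext x
    rw [PrimeSpectrum.mem_zeroLocus, SetLike.coe_subset_coe, Ideal.map_le_iff_le_comap,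
      Ideal.map_le_iff_le_comap]
    exact support_loc_core S S₁ ((p.map (algebraMap R R₁)).Fiber S₁) N N₁ f hf x
  have hbr : topologicalKrullDim ↥(Module.support ((p.map (algebraMap R R₁)).Fiber S₁)
      (FlatCA.fiberMod (p.map (algebraMap R R₁)) S₁ N₁)) =
      Order.krullDim ↥(Module.support ((p.map (algebraMap R R₁)).Fiber S₁)
      (FlatCA.fiberMod (p.map (algebraMap R R₁)) S₁ N₁)) := by
    rw [hs₁]
    exact topKrullDim_zeroLocus _ _
  exact loc_core (R₁ := R₁) (S₁ := S₁) g hX p hg T n _ hZ _ hZ₁ hbr hdim q hqp hhX ξ hξ hξq hloc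

end LocTop

end Groth.Agent.Helper7.OneStep
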