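import Mathlib
import Groth.Prelude
import Groth.Agent.Lib.Helper7.OneStep.Loc2
import Groth.Agent.Lib.Helper5.SmFib.TrdegNat

/-!
# helper7: a one-step devissage has a fibre basis, and the dimension drops on the cokernel
-/

set_option linter.style.haveILetI false
set_option linter.unusedVariables false
set_option linter.unusedSectionVars false
set_option autoImplicit false
set_option backward.isDefEq.respectTransparency.types false
set_option synthInstance.maxHeartbeats 400000
set_option maxHeartbeats 1600000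

universe u

open TensorProduct

namespace Groth.Agent.Helper7.OneStep

attribute [local instance] Algebra.TensorProduct.rightAlgebra

/-- the fibre rings of a map smooth of relative dimension `n` have dimension at most `n` -/
theorem ringKrullDim_fiber_le (R D : Type u) [CommRing R] [CommRing D] [Algebra R D] (n : ℕ)
    (hs : FlatCA.SmoothRelDim n R D) (p : Ideal R) [p.IsPrime] :
    ringKrullDim (p.Fiber D) ≤ (n : WithBot ℕ∞) := by
  haveI := Groth.Agent.Lib.Helper5.SmFib.smooth_of_smoothRelDim R D n hs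
  haveI : Algebra.FiniteType R D := inferInstance
  rw [ringKrullDim_le_iff_height_le]
  intro x hx
  obtain ⟨y, hy⟩ : ∃ y, y = (PrimeSpectrum.preimageEquivFiber R D ⟨p, inferInstance⟩).symm
    ⟨x, hx⟩ := ⟨_, rfl⟩
  have hq : y.1.asIdeal.comap (algebraMap R D) = p := congrArg PrimeSpectrum.asIdeal y.2
  haveI := y.1.isPrime
  have hx' : Groth.Agent.Lib.Helper5.SmFib.fibPt R D p y.1.asIdeal hq = ⟨x, hx⟩ := by
    have e : (PrimeSpectrum.preimageEquivFiber R D ⟨p, inferInstance⟩) y = ⟨x, hx⟩ := by
      rw [hy, Equiv.apply_symm_apply]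
    exact e
  obtain ⟨t, ht⟩ := Groth.Agent.Lib.Helper5.SmFib.exists_trdeg_nat R D p y.1.asIdeal hq
  have h1 := Groth.Agent.Lib.Helper5.SmFib.localDim_fibPt R D n hs p y.1.asIdeal hq
  have h2 := Groth.Agent.Lib.Helper5.SmFib.localDim_fibPt_eq R D p y.1.asIdeal hq t ht
  have h3₀ := IsLocalization.AtPrime.ringKrullDim_eq_height
    (Groth.Agent.Lib.Helper5.SmFib.fibPt R D p y.1.asIdeal hq).asIdeal
    (Localization.AtPrime (Groth.Agent.Lib.Helper5.SmFib.fibPt R D p y.1.asIdeal hq).asIdeal)
  have h3 : ringKrullDim (Localization.AtPrime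
      (Groth.Agent.Lib.Helper5.SmFib.fibPt R D p y.1.asIdeal hq).asIdeal) =
      ((Groth.Agent.Lib.Helper5.SmFib.fibPt R D p y.1.asIdeal hq).asIdeal).height := h3₀
  have h4 : (Groth.Agent.Lib.Helper5.SmFib.fibPt R D p y.1.asIdeal hq).asIdeal = x :=
    congrArg PrimeSpectrum.asIdeal hx'
  rw [h1, h3, h4] at h2
  rw [h2]
  exact le_add_of_nonneg_right (Nat.cast_nonneg t)

/-- if a bottom element is not in a subset, the subset has smaller dimension -/
theorem krullDim_lt_of_bot_notMem {X : Type*} [PartialOrder X] (b : X) (hb : ∀ x, b ≤ x)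
    (T : Set X) (hT : b ∉ T) (n : ℕ) (hX : Order.krullDim X ≤ (n : WithBot ℕ∞)) :
    Order.krullDim ↥T < (n : WithBot ℕ∞) := by
  have key : ∀ s : LTSeries ↥T, s.length + 1 ≤ n := by
    intro s
    have hlt : b < (s.head : X) := lt_of_le_of_ne (hb _) (fun e => hT (e ▸ s.head.2))
    obtain ⟨s', hs'⟩ : ∃ s' : LTSeries X, s'.length = s.length + 1 :=
      ⟨(s.map Subtype.val (fun _ _ h => h)).cons b hlt, by simp⟩
    have h1 : (s'.length : WithBot ℕ∞) ≤ Order.krullDim X :=
      Order.LTSeries.length_le_krullDim s'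
    have h2 : ((s'.length : ℕ) : WithBot ℕ∞) ≤ (n : WithBot ℕ∞) := h1.trans hX
    rw [hs'] at h2
    exact_mod_cast h2
  rcases isEmpty_or_nonempty ↥T with hE | ⟨⟨t⟩⟩
  · rw [Order.krullDim_eq_bot]
    exact WithBot.bot_lt_coe _
  · have hn : 1 ≤ n := by
      have h0 := key (RelSeries.singleton _ t)
      simpa using h0
    have hle : Order.krullDim ↥T ≤ ((n - 1 : ℕ) : WithBot ℕ∞) := by
      unfold Order.krullDim
      apply iSup_le
      intro s
      have h0 := key s
      have h5 : s.length ≤ n - 1 := by omega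
      exact_mod_cast h5
    refine lt_of_le_of_lt hle ?_
    have h6 : n - 1 < n := by omega
    exact_mod_cast h6

/-- at the generic point of the fibre: either the module is nontrivial there, or the support of
its fibre module has smaller dimension -/
theorem fiber_generic (R D : Type u) [CommRing R] [CommRing D] [Algebra R D] (p : Ideal R)
    [p.IsPrime] [hP : (p.map (algebraMap R D)).IsPrime]
    (hover : (p.map (algebraMap R D)).comap (algebraMap R D) = p)
    (n : ℕ) (hdimF : ringKrullDim (p.Fiber D) ≤ (n : WithBot ℕ∞))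
    (M : Type u) [AddCommGroup M] [Module D M] [Module.Finite D M] :
    Nontrivial ((p.map (algebraMap R D)).ResidueField ⊗[D] M) ∨
      Module.supportDim (p.Fiber D) ((p.Fiber D) ⊗[D] M) < (n : WithBot ℕ∞) := by
  by_cases hmem : (⟨p.map (algebraMap R D), hP⟩ : PrimeSpectrum D) ∈ Module.support D M
  · left
    exact (Module.mem_support_iff_nontrivial_residueField_tensorProduct
      (⟨p.map (algebraMap R D), hP⟩ : PrimeSpectrum D)).1 hmem
  · right
    obtain ⟨η, hη⟩ : ∃ η : PrimeSpectrum (p.Fiber D),
        η = PrimeSpectrum.preimageEquivFiber R D ⟨p, inferInstance⟩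
          ⟨⟨p.map (algebraMap R D), hP⟩, PrimeSpectrum.ext hover⟩ := ⟨_, rfl⟩
    have hηc : PrimeSpectrum.comap (algebraMap D (p.Fiber D)) η =
        ⟨p.map (algebraMap R D), hP⟩ := by
      rw [hη]
      exact comap_preimageEquivFiber p _ hover
    have h1 : η.asIdeal.comap (algebraMap D (p.Fiber D)) = p.map (algebraMap R D) :=
      congrArg PrimeSpectrum.asIdeal hηc
    have hbot : ∀ x : PrimeSpectrum (p.Fiber D), η ≤ x := by
      intro x
      show η.asIdeal ≤ x.asIdeal
      rw [asIdeal_eq_map_comap p η, Ideal.map_le_iff_le_comap, h1, Ideal.map_le_iff_le_comap]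
      exact (comap_comap_fiber p x).ge
    have hnot : η ∉ Module.support (p.Fiber D) ((p.Fiber D) ⊗[D] M) := by
      rw [Groth.Agent.Helper7.FibSupp.mem_support_baseChange_iff]
      intro hle
      apply hmem
      rw [Module.mem_support_iff_of_finite]
      rw [h1] at hle
      exact hle
    exact krullDim_lt_of_bot_notMem η hbot _ hnot n hdimF

/-- the support of the fibre module over the smooth algebra is at least as large -/
theorem compare_dim (R S : Type u) [CommRing R] [CommRing S] [Algebra R S]
    (N : Type u) [AddCommGroup N] [Module S N] [Module R N] [IsScalarTower R S N]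
    [Module.Finite S N] (p : Ideal R) [p.IsPrime]
    (C D G : Type u) [CommRing C] [CommRing D] [Algebra S C] [Algebra R C] [IsScalarTower R S C]
    [Algebra R D] [Algebra D C] [IsScalarTower R D C] [AddCommGroup G] [Module C G] [Module S G]
    [IsScalarTower S C G] [Module D G] [IsScalarTower D C G] [Module.Finite D G]
    [Algebra.IsIntegral D C]
    (e : N ≃ₗ[S] G) (hsurj : Function.Surjective (algebraMap S C)) (n : ℕ)
    (hdim : Module.supportDim (p.Fiber S) (FlatCA.fiberMod p S N) = n) :
    (p.map (algebraMap R D)).comap (algebraMap R D) = p ∧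
    (n : WithBot ℕ∞) ≤ Module.supportDim (p.Fiber D) ((p.Fiber D) ⊗[D] G) := by
  obtain ⟨TS, hTS⟩ : ∃ TS : Set (PrimeSpectrum S),
      TS = {Q | Module.annihilator S N ≤ Q.asIdeal} := ⟨_, rfl⟩
  obtain ⟨TD, hTD⟩ : ∃ TD : Set (PrimeSpectrum D),
      TD = {y | Module.annihilator D G ≤ y.asIdeal} := ⟨_, rfl⟩
  have hsuppS : Module.support (p.Fiber S) (FlatCA.fiberMod p S N) = fibSet p TS := by
    rw [hTS]
    ext x
    exact Groth.Agent.Helper7.FibSupp.mem_support_baseChange_iff N x
  have hsuppD : Module.support (p.Fiber D) ((p.Fiber D) ⊗[D] G) = fibSet p TD := by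
    rw [hTD]
    ext x
    exact Groth.Agent.Helper7.FibSupp.mem_support_baseChange_iff G x
  have hannS : ∀ s : S, (∀ g : G, algebraMap S C s • g = 0) → s ∈ Module.annihilator S N := by
    intro s hs
    rw [Module.mem_annihilator]
    intro x
    apply e.injective
    rw [map_smul, map_zero, ← algebraMap_smul C s (e x)]
    exact hs _
  have hQann : ∀ Q : ↥(overSet p TS), Module.annihilator S N ≤ Q.1.asIdeal := by
    intro Q
    have h0 : Q.1 ∈ {Q : PrimeSpectrum S | Module.annihilator S N ≤ Q.asIdeal} := by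
      rw [← hTS]
      exact Q.2.2
    exact h0
  have hker : ∀ Q : ↥(overSet p TS), RingHom.ker (algebraMap S C) ≤ Q.1.asIdeal := by
    intro Q s hs
    apply hQann Q
    apply hannS
    intro g
    rw [RingHom.mem_ker.mp hs, zero_smul]
  have hzc : ∀ Q : ↥(overSet p TS),
      (Q.1.asIdeal.map (algebraMap S C)).comap (algebraMap S C) = Q.1.asIdeal := by
    intro Q
    rw [Ideal.comap_map_of_surjective _ hsurj, sup_eq_left]
    exact hker Q
  have hΦ : ∀ Q : ↥(overSet p TS), ∃ y : ↥(overSet p TD),
      y.1.asIdeal = (Q.1.asIdeal.map (algebraMap S C)).comap (algebraMap D C) := by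
    intro Q
    haveI hz : (Q.1.asIdeal.map (algebraMap S C)).IsPrime :=
      Ideal.map_isPrime_of_surjective hsurj (hker Q)
    haveI hy : ((Q.1.asIdeal.map (algebraMap S C)).comap (algebraMap D C)).IsPrime :=
      Ideal.comap_isPrime _ _
    refine ⟨⟨⟨_, hy⟩, ?_, ?_⟩, rfl⟩
    · show ((Q.1.asIdeal.map (algebraMap S C)).comap (algebraMap D C)).comap (algebraMap R D) = p
      rw [Ideal.comap_comap, ← IsScalarTower.algebraMap_eq R D C,
        IsScalarTower.algebraMap_eq R S C, ← Ideal.comap_comap, hzc Q]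
      exact Q.2.1
    · rw [hTD]
      show Module.annihilator D G ≤ (Q.1.asIdeal.map (algebraMap S C)).comap (algebraMap D C)
      intro d hd
      rw [Ideal.mem_comap]
      obtain ⟨s, hs⟩ := hsurj (algebraMap D C d)
      rw [← hs]
      apply Ideal.mem_map_of_mem
      apply hQann Q
      apply hannS
      intro g
      rw [hs, algebraMap_smul]
      exact Module.mem_annihilator.mp hd g
  choose Φ hΦ' using hΦ
  have hΦmono : StrictMono Φ := by
    intro Q Q' hlt
    have hlt' : Q.1.asIdeal < Q'.1.asIdeal := hlt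
    show (Φ Q).1.asIdeal < (Φ Q').1.asIdeal
    rw [hΦ' Q, hΦ' Q']
    haveI : (Q.1.asIdeal.map (algebraMap S C)).IsPrime :=
      Ideal.map_isPrime_of_surjective hsurj (hker Q)
    have hle : Q.1.asIdeal.map (algebraMap S C) ≤ Q'.1.asIdeal.map (algebraMap S C) :=
      Ideal.map_mono hlt'.le
    obtain ⟨s, hsQ', hsQ⟩ := SetLike.exists_of_lt hlt'
    have hmem : algebraMap S C s ∈ (↑(Q'.1.asIdeal.map (algebraMap S C)) : Set C) \
        ↑(Q.1.asIdeal.map (algebraMap S C)) := by
      refine ⟨Ideal.mem_map_of_mem _ hsQ', fun hm => hsQ ?_⟩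
      have h0 : s ∈ (Q.1.asIdeal.map (algebraMap S C)).comap (algebraMap S C) := hm
      rwa [hzc Q] at h0
    exact Ideal.comap_lt_comap_of_integral_mem_sdiff hle hmem (Algebra.IsIntegral.isIntegral _)
  have hdimS : Order.krullDim ↥(fibSet p TS) = (n : WithBot ℕ∞) := by
    rw [← hsuppS]
    exact hdim
  have hchain : Order.krullDim ↥(fibSet p TS) ≤ Order.krullDim ↥(fibSet p TD) := by
    have s1 : StrictMono (fibHomeo p TS) :=
      (fibHomeo_mono p TS).strictMono_of_injective (fibHomeo p TS).injective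
    have s3 : StrictMono (fibHomeo p TD).symm :=
      (fibHomeo_symm_mono p TD).strictMono_of_injective (fibHomeo p TD).symm.injective
    exact Order.krullDim_le_of_strictMono _ (s3.comp (hΦmono.comp s1))
  constructor
  · have hne : Nonempty ↥(fibSet p TS) := by
      rcases isEmpty_or_nonempty ↥(fibSet p TS) with hE | hN
      · exfalso
        rw [Order.krullDim_eq_bot] at hdimS
        exact WithBot.natCast_ne_bot n hdimS.symm
      · exact hN
    obtain ⟨x⟩ := hne
    obtain ⟨y, hyp, -⟩ := Φ (fibHomeo p TS x)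
    apply le_antisymm
    · calc (p.map (algebraMap R D)).comap (algebraMap R D)
          ≤ y.asIdeal.comap (algebraMap R D) :=
            Ideal.comap_mono (Ideal.map_le_iff_le_comap.mpr hyp.ge)
        _ = p := hyp
    · exact Ideal.le_comap_map
  · rw [← hdimS]
    unfold Module.supportDim
    rw [hsuppD]
    exact hchain

/-- a map from a finite free module which is bijective at a given residue field -/
theorem exists_alpha (D : Type u) [CommRing D] (κ : Type u) [Field κ] [Algebra D κ]
    (G : Type u) [AddCommGroup G] [Module D G] [Module.Finite D G] [Nontrivial (κ ⊗[D] G)] :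
    ∃ (r : ℕ) (α : (Fin r → D) →ₗ[D] G), 0 < r ∧ Function.Bijective (α.baseChange κ) := by
  classical
  obtain ⟨t, ht⟩ : ∃ t : Set (κ ⊗[D] G), t = Set.range (fun g : G => (1 : κ) ⊗ₜ[D] g) :=
    ⟨_, rfl⟩
  have hspan : Submodule.span κ t = ⊤ := by
    rw [eq_top_iff]
    rintro v -
    induction v using TensorProduct.induction_on with
    | zero => exact zero_mem _
    | tmul c g =>
      have h1 : c ⊗ₜ[D] g = c • ((1 : κ) ⊗ₜ[D] g) := by
        rw [TensorProduct.smul_tmul', smul_eq_mul, mul_one]
      rw [h1, ht]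
      exact Submodule.smul_mem _ _ (Submodule.subset_span ⟨g, rfl⟩)
    | add a b ha hb => exact add_mem ha hb
  obtain ⟨b, hbt, hbspan, hbli⟩ := exists_linearIndependent κ t
  have hbfin : b.Finite := hbli.setFinite
  haveI : Fintype ↥b := hbfin.fintype
  obtain ⟨r, ⟨eb⟩⟩ : ∃ r : ℕ, Nonempty (↥b ≃ Fin r) := ⟨_, ⟨Fintype.equivFin ↥b⟩⟩
  obtain ⟨v, hv⟩ : ∃ v : Fin r → κ ⊗[D] G, v = fun i => ((eb.symm i : ↥b) : κ ⊗[D] G) :=
    ⟨_, rfl⟩
  have hvli : LinearIndependent κ v := by
    rw [hv]
    exact hbli.comp eb.symm eb.symm.injective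
  have hrange : Set.range v = b := by
    rw [hv]
    ext w
    constructor
    · rintro ⟨i, rfl⟩
      exact (eb.symm i).2
    · intro hw
      exact ⟨eb ⟨w, hw⟩, by simp⟩
  have hvspan : ⊤ ≤ Submodule.span κ (Set.range v) := by
    rw [hrange, hbspan, hspan]
  have hg : ∀ i, ∃ g : G, (1 : κ) ⊗ₜ[D] g = v i := by
    intro i
    have h1 : v i ∈ t := by
      apply hbt
      rw [← hrange]
      exact ⟨i, rfl⟩
    rw [ht] at h1
    exact h1
  choose gf hgf using hg
  obtain ⟨bV, hbV⟩ : ∃ bV : Module.Basis (Fin r) κ (κ ⊗[D] G), ∀ i, bV i = v i :=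
    ⟨Module.Basis.mk hvli hvspan, fun i => Module.Basis.mk_apply hvli hvspan i⟩
  obtain ⟨bD, hbD⟩ : ∃ bD : Module.Basis (Fin r) κ (κ ⊗[D] (Fin r → D)),
      ∀ i, bD i = (1 : κ) ⊗ₜ[D] (Pi.single i (1 : D) : Fin r → D) :=
    ⟨Algebra.TensorProduct.basis κ (Pi.basisFun D (Fin r)), fun i => by
      rw [Algebra.TensorProduct.basis_apply, Pi.basisFun_apply]⟩
  refine ⟨r, Fintype.linearCombination D gf, ?_, ?_⟩
  · have hne : Nonempty (Fin r) := bV.index_nonempty
    exact Fin.pos_iff_nonempty.mpr hne
  · have heq : (Fintype.linearCombination D gf).baseChange κ =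
        ((bD.equiv bV (Equiv.refl _)) :
          κ ⊗[D] (Fin r → D) →ₗ[κ] κ ⊗[D] G) := by
      apply bD.ext
      intro i
      rw [LinearEquiv.coe_coe, Module.Basis.equiv_apply, Equiv.refl_apply, hbD, hbV,
        LinearMap.baseChange_tmul, Fintype.linearCombination_apply_single, one_smul, hgf]
    rw [heq]
    exact (bD.equiv bV (Equiv.refl _)).bijective

/-- the cokernel vanishes at the residue field -/
theorem subsingleton_coker (D : Type u) [CommRing D] (κ : Type u) [Field κ] [Algebra D κ]
    (G : Type u) [AddCommGroup G] [Module D G] (r : ℕ) (α : (Fin r → D) →ₗ[D] G)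
    (hbij : Function.Bijective (α.baseChange κ)) :
    Subsingleton (κ ⊗[D] (G ⧸ LinearMap.range α)) := by
  have hzero : ((LinearMap.range α).mkQ.baseChange κ).comp (α.baseChange κ) = 0 := by
    rw [← LinearMap.baseChange_comp, LinearMap.range_mkQ_comp, LinearMap.baseChange_zero]
  have hsurjQ : Function.Surjective ((LinearMap.range α).mkQ.baseChange κ) := by
    rw [LinearMap.baseChange_eq_ltensor]
    exact LinearMap.lTensor_surjective _ (Submodule.mkQ_surjective _)
  have hall : ∀ a : κ ⊗[D] (G ⧸ LinearMap.range α), a = 0 := by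
    intro a
    obtain ⟨a', rfl⟩ := hsurjQ a
    obtain ⟨a'', rfl⟩ := hbij.2 a'
    exact congrArg (fun f => f a'') hzero
  exact ⟨fun a b => by rw [hall a, hall b]⟩

/-- **A one-step devissage has a fibre basis, and the dimension drops on the cokernel.** -/
theorem main_S1285 {R S : Type u} [CommRing R] [CommRing S] [Algebra R S]
    (N : Type u) [AddCommGroup N] [Module S N] [Module R N] [IsScalarTower R S N]
    [Module.Finite S N] (p : Ideal R) [p.IsPrime]
    (C D G : Type u) [CommRing C] [CommRing D] [Algebra S C] [Algebra R C] [IsScalarTower R S C]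
    [Algebra R D] [Algebra D C] [IsScalarTower R D C] [AddCommGroup G] [Module C G] [Module S G]
    [IsScalarTower S C G] [Module D G] [IsScalarTower D C G] [Module R G] [IsScalarTower R D G]
    (n : ℕ) (h : FlatCA.IsOneStepDevissage R S N p C D G n)
    [hP : (p.map (algebraMap R D)).IsPrime] :
    (∃ (r : ℕ) (α : (Fin r → D) →ₗ[D] G), 0 < r ∧
      Function.Bijective (α.baseChange (p.map (algebraMap R D)).ResidueField)) ∧
    ∀ (r : ℕ) (α : (Fin r → D) →ₗ[D] G),
      Function.Bijective (α.baseChange (p.map (algebraMap R D)).ResidueField) →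
      Module.supportDim (p.Fiber D) (FlatCA.fiberMod p D (G ⧸ LinearMap.range α)) <
        (n : WithBot ℕ∞) := by
  obtain ⟨⟨e⟩, hsurj, hfp, hfinDC, hfinCG, hsm, hgi, hdim⟩ := h
  haveI := hfinDC
  haveI := hfinCG
  haveI hfinDG : Module.Finite D G := Module.Finite.trans C G
  haveI : Algebra.IsIntegral D C := Algebra.IsIntegral.of_finite D C
  have hdimF : ringKrullDim (p.Fiber D) ≤ (n : WithBot ℕ∞) := ringKrullDim_fiber_le R D n hsm p
  obtain ⟨hover, hge⟩ := compare_dim R S N p C D G e hsurj n hdim
  constructor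
  · haveI hnt : Nontrivial ((p.map (algebraMap R D)).ResidueField ⊗[D] G) := by
      rcases fiber_generic R D p hover n hdimF G with h' | h'
      · exact h'
      · exact absurd hge (not_le.mpr h')
    exact exists_alpha D (p.map (algebraMap R D)).ResidueField G
  · intro r α hbij
    have hsub := subsingleton_coker D (p.map (algebraMap R D)).ResidueField G r α hbij
    rcases fiber_generic R D p hover n hdimF (G ⧸ LinearMap.range α) with h' | h'
    · exact absurd h' (not_nontrivial_iff_subsingleton.mpr hsub)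
    · exact h'

end Groth.Agent.Helper7.OneStep
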