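import Mathlib
import Groth.Prelude
import Groth.Agent.Lib.Helper7.OneStep.Loc2

/-!
# helper7: one-step devissage under localization, part 3

Residue fields of localizations, purely transcendental residue field extensions, localizations away
from elements dividing powers of each other, and the generic assembly.
-/

set_option linter.style.haveILetI false
set_option linter.unusedVariables false
set_option linter.unusedSectionVars false
set_option autoImplicit false
set_option backward.isDefEq.respectTransparency.types false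
set_option synthInstance.maxHeartbeats 400000
set_option maxHeartbeats 1600000

universe u

open TensorProduct

namespace Groth.Agent.Helper7.OneStep

attribute [local instance] Algebra.TensorProduct.rightAlgebra

/-- the residue field does not change under localization away from an element -/
theorem residueField_map_surjective_of_away {R R₁ : Type u} [CommRing R] [CommRing R₁]
    [Algebra R R₁] (g : R) [IsLocalization.Away g R₁] (p : Ideal R) [p.IsPrime]
    (p₁ : Ideal R₁) [p₁.IsPrime] [hp : p₁.LiesOver p] :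
    Function.Surjective (Ideal.ResidueField.mapₐ p p₁ (Algebra.ofId R R₁) hp.over) := by
  have H : ((Algebra.ofId R R₁ : R →ₐ[R] R₁).toRingHom).SurjectiveOnStalks :=
    RingHom.surjectiveOnStalks_of_isLocalization (M := Submonoid.powers g) R₁
  have hb := H.residueFieldMap_bijective p p₁ hp.over
  intro v
  obtain ⟨w, hw⟩ := hb.2 v
  exact ⟨w, hw⟩

/-- purely transcendental residue field extensions transfer along isomorphisms of residue fields -/
theorem purelyTranscendental_of_surjective {R R' D D' : Type u} [CommRing R] [CommRing R']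
    [CommRing D] [CommRing D'] [Algebra R R'] [Algebra R D] [Algebra R' D'] [Algebra D D']
    [Algebra R D'] [IsScalarTower R R' D'] [IsScalarTower R D D']
    (p : Ideal R) [p.IsPrime] (p' : Ideal R') [p'.IsPrime] [hp : p'.LiesOver p]
    (hκ : Function.Surjective (Ideal.ResidueField.mapₐ p p' (Algebra.ofId R R') hp.over))
    (y : Ideal D) [y.IsPrime] [hyp : y.LiesOver p] (y' : Ideal D') [y'.IsPrime]
    [hy'y : y'.LiesOver y] [hy'p' : y'.LiesOver p']
    (hκy : Function.Surjective (Ideal.ResidueField.mapₐ y y' (Algebra.ofId D D') hy'y.over))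
    (h4 : FlatCA.PurelyTranscendental p y) : FlatCA.PurelyTranscendental p' y' := by
  letI a1 : Algebra p.ResidueField y.ResidueField :=
    (Ideal.ResidueField.mapₐ p y (Algebra.ofId R D) hyp.over).toRingHom.toAlgebra
  letI a2 : Algebra p'.ResidueField y'.ResidueField :=
    (Ideal.ResidueField.mapₐ p' y' (Algebra.ofId R' D') hy'p'.over).toRingHom.toAlgebra
  obtain ⟨ι, x, hx, hadj⟩ := h4
  let σ : p.ResidueField ≃+* p'.ResidueField :=
    RingEquiv.ofBijective (Ideal.ResidueField.mapₐ p p' (Algebra.ofId R R') hp.over).toRingHom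
      ⟨RingHom.injective _, hκ⟩
  let τ : y.ResidueField ≃+* y'.ResidueField :=
    RingEquiv.ofBijective (Ideal.ResidueField.mapₐ y y' (Algebra.ofId D D') hy'y.over).toRingHom
      ⟨RingHom.injective _, hκy⟩
  have hcompat : ∀ r, τ (algebraMap p.ResidueField y.ResidueField r) =
      algebraMap p'.ResidueField y'.ResidueField (σ r) := by
    have h0 : (τ : y.ResidueField →+* y'.ResidueField).comp
        (algebraMap p.ResidueField y.ResidueField) =
        (algebraMap p'.ResidueField y'.ResidueField).comp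
          (σ : p.ResidueField →+* p'.ResidueField) := by
      apply Ideal.ResidueField.ringHom_ext
      ext r
      show (Ideal.ResidueField.mapₐ y y' (Algebra.ofId D D') hy'y.over)
          ((Ideal.ResidueField.mapₐ p y (Algebra.ofId R D) hyp.over)
            (algebraMap R p.ResidueField r)) =
        (Ideal.ResidueField.mapₐ p' y' (Algebra.ofId R' D') hy'p'.over)
          ((Ideal.ResidueField.mapₐ p p' (Algebra.ofId R R') hp.over)
            (algebraMap R p.ResidueField r))
      rw [AlgHom.commutes, AlgHom.commutes, IsScalarTower.algebraMap_apply R D y.ResidueField,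
        AlgHom.commutes, IsScalarTower.algebraMap_apply R R' p'.ResidueField, AlgHom.commutes,
        IsScalarTower.algebraMap_apply D D' y'.ResidueField,
        IsScalarTower.algebraMap_apply R' D' y'.ResidueField,
        ← IsScalarTower.algebraMap_apply R D D', ← IsScalarTower.algebraMap_apply R R' D']
    intro r
    exact congrArg (fun g => g r) h0
  refine ⟨ι, τ ∘ x, ?_, ?_⟩
  · exact isTranscendenceBasis_transfer σ τ (RingHom.ext fun r => (hcompat r).symm) x hx
  · rw [Set.range_comp]
    exact adjoin_transfer σ τ hcompat _ hadj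

/-- localizations away from elements dividing powers of each other agree -/
theorem away_of_dvd {A A₁ : Type u} [CommRing A] [CommRing A₁] [Algebra A A₁] (a b : A)
    [ha : IsLocalization.Away a A₁] (hba : b ∣ a) (m : ℕ) (hab : a ∣ b ^ m) :
    IsLocalization.Away b A₁ := by
  have h1 : IsLocalization (Submonoid.powers a ⊔ Submonoid.powers b) A₁ := by
    refine (IsLocalization.iff_of_le_of_exists_dvd (M := Submonoid.powers a)
      (Submonoid.powers a ⊔ Submonoid.powers b) le_sup_left ?_).mp ha
    intro n hn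
    obtain ⟨x, hx, y, hy, rfl⟩ := Submonoid.mem_sup.mp hn
    obtain ⟨i, rfl⟩ := (Submonoid.mem_powers_iff _ _).mp hx
    obtain ⟨j, rfl⟩ := (Submonoid.mem_powers_iff _ _).mp hy
    refine ⟨a ^ (i + j), ⟨i + j, rfl⟩, ?_⟩
    rw [pow_add]
    exact mul_dvd_mul_left _ (pow_dvd_pow_of_dvd hba j)
  refine (IsLocalization.iff_of_le_of_exists_dvd (M := Submonoid.powers b)
    (Submonoid.powers a ⊔ Submonoid.powers b) le_sup_right ?_).mpr h1
  intro n hn
  obtain ⟨x, hx, y, hy, rfl⟩ := Submonoid.mem_sup.mp hn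
  obtain ⟨i, rfl⟩ := (Submonoid.mem_powers_iff _ _).mp hx
  obtain ⟨j, rfl⟩ := (Submonoid.mem_powers_iff _ _).mp hy
  refine ⟨b ^ (m * i + j), ⟨m * i + j, rfl⟩, ?_⟩
  rw [pow_add, pow_mul]
  exact mul_dvd_mul_right (pow_dvd_pow_of_dvd hab i) _

/-- **Generic localization of a one-step devissage at a point.** -/
theorem loc_main
    (R S : Type u) [CommRing R] [CommRing S] [Algebra R S]
    (N : Type u) [AddCommGroup N] [Module S N] [Module R N] [IsScalarTower R S N]
    [Module.Finite S N]
    (p : Ideal R) [p.IsPrime] (q : Ideal S) [q.IsPrime] [hqp : q.LiesOver p]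
    (C D G : Type u) [CommRing C] [CommRing D] [Algebra S C] [Algebra R C] [IsScalarTower R S C]
    [Algebra R D] [Algebra D C] [IsScalarTower R D C] [AddCommGroup G] [Module C G] [Module S G]
    [IsScalarTower S C G] (n : ℕ)
    (h : FlatCA.IsOneStepDevissage R S N p C D G n)
    (z : Ideal C) [z.IsPrime] (y : Ideal D) [y.IsPrime] [hzq : z.LiesOver q] [hzy : z.LiesOver y]
    [hyp : y.LiesOver p]
    (h1 : ∃ (ξ : PrimeSpectrum (p.Fiber S))
      (hξ : ξ ∈ Module.support (p.Fiber S) (FlatCA.fiberMod p S N)),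
      ξ.asIdeal = FlatCA.fiberIdeal p q ∧
      FlatMor.localDim (Module.support (p.Fiber S) (FlatCA.fiberMod p S N)) ⟨ξ, hξ⟩ = n)
    (h3 : ∀ (z₁ : Ideal C) [z₁.IsPrime], z₁.LiesOver y → z₁ = z)
    (h4 : FlatCA.PurelyTranscendental p y)
    (g : R) (hX : S) (hZ : C) (hY : D) (hg : g ∉ p) (hhX : hX ∉ q) (hhZ : hZ ∉ z) (hhY : hY ∉ y)
    (hZX : hZ = algebraMap S C hX) (hYZ : algebraMap D C hY ∣ hZ) (m : ℕ)
    (hZY : hZ ∣ algebraMap D C hY ^ m)
    (R₁ S₁ C₁ D₁ : Type u) [CommRing R₁] [CommRing S₁] [CommRing C₁] [CommRing D₁]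
    [Algebra R R₁] [Algebra S S₁] [Algebra C C₁] [Algebra D D₁]
    [IsLocalization.Away g R₁] [IsLocalization.Away hX S₁] [IsLocalization.Away hZ C₁]
    [IsLocalization.Away hY D₁]
    [Algebra R S₁] [IsScalarTower R S S₁]
    [Algebra R D₁] [IsScalarTower R D D₁]
    [Algebra S C₁] [IsScalarTower S C C₁]
    [Algebra D C₁] [IsScalarTower D C C₁]
    [Algebra R₁ S₁] [IsScalarTower R R₁ S₁]
    [Algebra R₁ C₁]
    [Algebra R₁ D₁] [IsScalarTower R R₁ D₁]
    [Algebra S₁ C₁] [IsScalarTower S S₁ C₁] [IsScalarTower R₁ S₁ C₁]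
    [Algebra D₁ C₁] [IsScalarTower D D₁ C₁] [IsScalarTower R₁ D₁ C₁]
    (N₁ : Type u) [AddCommGroup N₁] [Module S₁ N₁] [Module S N₁] [IsScalarTower S S₁ N₁]
    [Module R₁ N₁] [IsScalarTower R₁ S₁ N₁]
    (f : N →ₗ[S] N₁) [IsLocalizedModule (Submonoid.powers hX) f]
    (G₁ : Type u) [AddCommGroup G₁] [Module C₁ G₁] [Module C G₁] [IsScalarTower C C₁ G₁]
    [Module S₁ G₁] [IsScalarTower S₁ C₁ G₁]
    (f' : G →ₗ[C] G₁) [IsLocalizedModule (Submonoid.powers hZ) f']
    (hsurj : Function.Surjective (PrimeSpectrum.comap (algebraMap R₁ D₁))) :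
    ∃ (_ : (p.map (algebraMap R R₁)).IsPrime) (_ : (y.map (algebraMap D D₁)).IsPrime)
      (_ : (y.map (algebraMap D D₁)).LiesOver (p.map (algebraMap R R₁))),
      FlatCA.IsOneStepDevissage R₁ S₁ N₁ (p.map (algebraMap R R₁)) C₁ D₁ G₁ n ∧
      (∃ (ξ : PrimeSpectrum ((p.map (algebraMap R R₁)).Fiber S₁))
          (hξ : ξ ∈ Module.support ((p.map (algebraMap R R₁)).Fiber S₁)
            (FlatCA.fiberMod (p.map (algebraMap R R₁)) S₁ N₁)),
        ξ.asIdeal = FlatCA.fiberIdeal (p.map (algebraMap R R₁)) (q.map (algebraMap S S₁)) ∧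
        FlatMor.localDim (Module.support ((p.map (algebraMap R R₁)).Fiber S₁)
          (FlatCA.fiberMod (p.map (algebraMap R R₁)) S₁ N₁)) ⟨ξ, hξ⟩ = n) ∧
      (z.map (algebraMap C C₁)).LiesOver (q.map (algebraMap S S₁)) ∧
      (z.map (algebraMap C C₁)).LiesOver (y.map (algebraMap D D₁)) ∧
      (∀ (z₂ : Ideal C₁) [z₂.IsPrime], z₂.LiesOver (y.map (algebraMap D D₁)) →
        z₂ = z.map (algebraMap C C₁)) ∧
      FlatCA.PurelyTranscendental (p.map (algebraMap R R₁)) (y.map (algebraMap D D₁)) := by
  haveI hp₁ : (p.map (algebraMap R R₁)).IsPrime := map_isPrime_of_notMem (R₁ := R₁) g p hg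
  haveI hy₁ : (y.map (algebraMap D D₁)).IsPrime := map_isPrime_of_notMem (R₁ := D₁) hY y hhY
  have hzC : (z.map (algebraMap C C₁)).comap (algebraMap C C₁) = z :=
    under_map_of_notMem (R₁ := C₁) hZ z hhZ
  have hyD : (y.map (algebraMap D D₁)).comap (algebraMap D D₁) = y :=
    under_map_of_notMem (R₁ := D₁) hY y hhY
  haveI hy₁p₁ : (y.map (algebraMap D D₁)).LiesOver (p.map (algebraMap R R₁)) := by
    constructor
    refine ((over_map_iff (R := R) (S := D) (R₁ := R₁) (S₁ := D₁) g p hg
      (y.map (algebraMap D D₁))).mpr ?_).symm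
    rw [hyD]
    exact hyp.over.symm
  have hz₁q₁ : (z.map (algebraMap C C₁)).LiesOver (q.map (algebraMap S S₁)) := by
    constructor
    refine ((over_map_iff (R := S) (S := C) (R₁ := S₁) (S₁ := C₁) hX q hhX
      (z.map (algebraMap C C₁))).mpr ?_).symm
    rw [hzC]
    exact hzq.over.symm
  have hz₁y₁ : (z.map (algebraMap C C₁)).LiesOver (y.map (algebraMap D D₁)) := by
    constructor
    refine ((over_map_iff (R := D) (S := C) (R₁ := D₁) (S₁ := C₁) hY y hhY
      (z.map (algebraMap C C₁))).mpr ?_).symm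
    rw [hzC]
    exact hzy.over.symm
  have huniq : ∀ (z₂ : Ideal C₁) [z₂.IsPrime], z₂.LiesOver (y.map (algebraMap D D₁)) →
      z₂ = z.map (algebraMap C C₁) := by
    intro z₂ hz₂ hover
    have h5 : (z₂.comap (algebraMap C C₁)).comap (algebraMap D C) = y :=
      (over_map_iff (R := D) (S := C) (R₁ := D₁) (S₁ := C₁) hY y hhY z₂).mp hover.over.symm
    haveI : (z₂.comap (algebraMap C C₁)).IsPrime := Ideal.comap_isPrime _ _
    have h6 : z₂.comap (algebraMap C C₁) = z := h3 _ ⟨h5.symm⟩
    calc z₂ = Ideal.map (algebraMap C C₁) (Ideal.under C z₂) :=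
          (IsLocalization.map_under (Submonoid.powers hZ) C₁ z₂).symm
      _ = z.map (algebraMap C C₁) := by
          show Ideal.map (algebraMap C C₁) (z₂.comap (algebraMap C C₁)) = _
          rw [h6]
  have hPT : FlatCA.PurelyTranscendental (p.map (algebraMap R R₁)) (y.map (algebraMap D D₁)) := by
    haveI o1 : (p.map (algebraMap R R₁)).LiesOver p :=
      ⟨(under_map_of_notMem (R₁ := R₁) g p hg).symm⟩
    haveI o2 : (y.map (algebraMap D D₁)).LiesOver y := ⟨hyD.symm⟩
    exact purelyTranscendental_of_surjective p (p.map (algebraMap R R₁))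
      (residueField_map_surjective_of_away g p _) y (y.map (algebraMap D D₁))
      (residueField_map_surjective_of_away hY y _) h4
  haveI l1 : IsLocalization (Algebra.algebraMapSubmonoid C (Submonoid.powers hX)) C₁ := by
    have e : Algebra.algebraMapSubmonoid C (Submonoid.powers hX) = Submonoid.powers hZ := by
      rw [hZX]
      exact Submonoid.map_powers (algebraMap S C) hX
    rw [e]
    infer_instance
  haveI pSC : Algebra.IsPushout S C S₁ C₁ :=
    Algebra.isPushout_of_isLocalization (Submonoid.powers hX) S₁ C C₁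
  haveI l2 : IsLocalization.Away (algebraMap D C hY) C₁ :=
    away_of_dvd hZ (algebraMap D C hY) hYZ m hZY
  haveI l3 : IsLocalization (Algebra.algebraMapSubmonoid C (Submonoid.powers hY)) C₁ := by
    have e : Algebra.algebraMapSubmonoid C (Submonoid.powers hY) =
        Submonoid.powers (algebraMap D C hY) := Submonoid.map_powers (algebraMap D C) hY
    rw [e]
    exact l2
  haveI pDC : Algebra.IsPushout D C D₁ C₁ :=
    Algebra.isPushout_of_isLocalization (Submonoid.powers hY) D₁ C C₁
  have hf : IsBaseChange S₁ f := IsLocalizedModule.isBaseChange (Submonoid.powers hX) S₁ f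
  have hf' : IsBaseChange C₁ f' := IsLocalizedModule.isBaseChange (Submonoid.powers hZ) C₁ f'
  have hsm : FlatCA.SmoothRelDim n R₁ D₁ :=
    smoothRelDim_of_isLocalization R D R₁ D₁ g hY n h.2.2.2.2.2.1
  have hgi : FlatCA.GeomIrredFibres R₁ D₁ :=
    geomIrred_of_isLocalization R D R₁ D₁ g hY hsurj h.2.2.2.2.2.2.1
  obtain ⟨ξ, hξ, hξq, hloc⟩ := h1
  obtain ⟨hdim₁, hpt⟩ := loc_fiber (R₁ := R₁) (S₁ := S₁) g hX p hg N N₁ f hf n h.2.2.2.2.2.2.2 q
    hqp.over.symm hhX ξ hξ hξq hloc
  refine ⟨hp₁, hy₁, hy₁p₁, ?_, hpt, hz₁q₁, hz₁y₁, huniq, hPT⟩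
  exact oneStep_of_pushouts R S N p C D G n h R₁ (p.map (algebraMap R R₁)) S₁ C₁ D₁ N₁ f hf G₁ f'
    hf' hsm hgi hdim₁

end Groth.Agent.Helper7.OneStep
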