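import Mathlib
import Groth.Prelude
import Groth.Agent.Lib.Helper7.OneStep.Loc3

/-!
# helper7: one-step devissage under localization, part 4

The standard shrinking of a one-step devissage at a point: choice of the elements and the
structures on the localizations.
-/

set_option linter.style.haveILetI false
set_option linter.unusedVariables false
set_option linter.unusedSectionVars false
set_option autoImplicit false
set_option backward.isDefEq.respectTransparency.types false
set_option synthInstance.maxHeartbeats 400000
set_option maxHeartbeats 1600000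

universe u

open TensorProduct CategoryTheory AlgebraicGeometry

namespace Groth.Agent.Helper7.OneStep

attribute [local instance] Algebra.TensorProduct.rightAlgebra

/-- an element dividing the inverted element becomes a unit -/
theorem isUnit_of_dvd_away {A B B₁ : Type u} [CommRing A] [CommRing B] [CommRing B₁]
    [Algebra A B] [Algebra B B₁] [Algebra A B₁] [IsScalarTower A B B₁] (a : A) (b : B)
    [IsLocalization.Away b B₁] (h : algebraMap A B a ∣ b) : IsUnit (algebraMap A B₁ a) := by
  rw [IsScalarTower.algebraMap_apply A B B₁]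
  exact isUnit_of_dvd_unit (map_dvd (algebraMap B B₁) h) (IsLocalization.Away.algebraMap_isUnit b)

theorem tower_of_tower (A B B₁ C₁ : Type u) [CommRing A] [CommRing B] [CommRing B₁] [CommRing C₁]
    [Algebra A B] [Algebra B B₁] [Algebra A B₁] [Algebra B₁ C₁] [Algebra B C₁] [Algebra A C₁]
    [IsScalarTower A B B₁] [IsScalarTower A B C₁] [IsScalarTower B B₁ C₁] :
    IsScalarTower A B₁ C₁ :=
  IsScalarTower.of_algebraMap_eq fun r => by
    rw [IsScalarTower.algebraMap_apply A B B₁, ← IsScalarTower.algebraMap_apply B B₁ C₁,
      ← IsScalarTower.algebraMap_apply A B C₁]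

theorem tower_of_away (A A₁ B₁ C₁ : Type u) [CommRing A] [CommRing A₁] [CommRing B₁] [CommRing C₁]
    [Algebra A A₁] [Algebra A₁ B₁] [Algebra B₁ C₁] [Algebra A₁ C₁] [Algebra A B₁] [Algebra A C₁]
    [IsScalarTower A A₁ B₁] [IsScalarTower A A₁ C₁] [IsScalarTower A B₁ C₁] (a : A)
    [IsLocalization.Away a A₁] : IsScalarTower A₁ B₁ C₁ := by
  apply IsScalarTower.of_algebraMap_eq'
  apply IsLocalization.ringHom_ext (Submonoid.powers a)
  ext r
  simp only [RingHom.comp_apply]
  rw [← IsScalarTower.algebraMap_apply A A₁ C₁, ← IsScalarTower.algebraMap_apply A A₁ B₁,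
    ← IsScalarTower.algebraMap_apply A B₁ C₁]

/-- surjectivity on spectra of the localized map from a covering property downstairs -/
theorem comap_surjective_of_cover (R D R₁ D₁ : Type u) [CommRing R] [CommRing D] [CommRing R₁]
    [CommRing D₁] [Algebra R R₁] [Algebra R D] [Algebra R₁ D₁] [Algebra D D₁] [Algebra R D₁]
    [IsScalarTower R R₁ D₁] [IsScalarTower R D D₁]
    (g : R) [IsLocalization.Away g R₁] (hY : D) [IsLocalization.Away hY D₁]
    (hcov : ∀ P : PrimeSpectrum R, g ∉ P.asIdeal →
      ∃ Q : PrimeSpectrum D, hY ∉ Q.asIdeal ∧ Q.asIdeal.comap (algebraMap R D) = P.asIdeal) :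
    Function.Surjective (PrimeSpectrum.comap (algebraMap R₁ D₁)) := by
  intro P₁
  have hgP : g ∉ (PrimeSpectrum.comap (algebraMap R R₁) P₁).asIdeal := by
    intro hmem
    exact P₁.2.ne_top (Ideal.eq_top_of_isUnit_mem P₁.asIdeal
      (show algebraMap R R₁ g ∈ P₁.asIdeal from hmem) (IsLocalization.Away.algebraMap_isUnit g))
  obtain ⟨Q, hQ, hQP⟩ := hcov _ hgP
  haveI := Q.2
  have hQ₁ : (Q.asIdeal.map (algebraMap D D₁)).IsPrime :=
    map_isPrime_of_notMem (R₁ := D₁) hY Q.asIdeal hQ
  have hQc : (Q.asIdeal.map (algebraMap D D₁)).comap (algebraMap D D₁) = Q.asIdeal :=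
    under_map_of_notMem (R₁ := D₁) hY Q.asIdeal hQ
  refine ⟨⟨Q.asIdeal.map (algebraMap D D₁), hQ₁⟩, ?_⟩
  apply PrimeSpectrum.localization_comap_injective R₁ (Submonoid.powers g)
  apply PrimeSpectrum.ext
  show ((Q.asIdeal.map (algebraMap D D₁)).comap (algebraMap R₁ D₁)).comap (algebraMap R R₁) =
    P₁.asIdeal.comap (algebraMap R R₁)
  have e1 : ((Q.asIdeal.map (algebraMap D D₁)).comap (algebraMap R₁ D₁)).comap (algebraMap R R₁) =
      Q.asIdeal.comap (algebraMap R D) := by
    rw [Ideal.comap_comap, ← IsScalarTower.algebraMap_eq R R₁ D₁,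
      IsScalarTower.algebraMap_eq R D D₁, ← Ideal.comap_comap, hQc]
  exact e1.trans hQP

/-- a basic open neighbourhood of the point of the base inside the image of a basic open -/
theorem exists_g (R D : Type u) [CommRing R] [CommRing D] [Algebra R D] (n : ℕ)
    (hsm : FlatCA.SmoothRelDim n R D) (p : Ideal R) [p.IsPrime] (y : Ideal D) [y.IsPrime]
    [hyp : y.LiesOver p] (w : D) (hw : w ∉ y) :
    ∃ g : R, g ∉ p ∧ ∀ P : PrimeSpectrum R, g ∉ P.asIdeal →
      ∃ Q : PrimeSpectrum D, w ∉ Q.asIdeal ∧ Q.asIdeal.comap (algebraMap R D) = P.asIdeal := by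
  haveI i1 : SmoothOfRelativeDimension n (Spec.map (CommRingCat.ofHom (algebraMap R D))) := hsm
  haveI i2 : Smooth (Spec.map (CommRingCat.ofHom (algebraMap R D))) :=
    SmoothOfRelativeDimension.smooth n _
  have hopen : IsOpenMap (PrimeSpectrum.comap (algebraMap R D)) :=
    Scheme.Hom.isOpenMap (Spec.map (CommRingCat.ofHom (algebraMap R D)))
  have hU : IsOpen (PrimeSpectrum.comap (algebraMap R D) ''
      (PrimeSpectrum.basicOpen w : Set (PrimeSpectrum D))) :=
    hopen _ (PrimeSpectrum.basicOpen w).isOpen
  have hpU : (⟨p, inferInstance⟩ : PrimeSpectrum R) ∈ PrimeSpectrum.comap (algebraMap R D) ''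
      (PrimeSpectrum.basicOpen w : Set (PrimeSpectrum D)) :=
    ⟨⟨y, inferInstance⟩, hw, PrimeSpectrum.ext hyp.over.symm⟩
  obtain ⟨_, ⟨g, rfl⟩, hpg, hgU⟩ :=
    PrimeSpectrum.isTopologicalBasis_basic_opens.isOpen_iff.mp hU _ hpU
  refine ⟨g, hpg, fun P hP => ?_⟩
  obtain ⟨Q, hQw, hQP⟩ := hgU hP
  exact ⟨Q, hQw, congrArg PrimeSpectrum.asIdeal hQP⟩

/-- an element of the smooth algebra outside the point whose image is a multiple of a given
element outside the point upstairs -/
theorem exists_d (S C D : Type u) [CommRing S] [CommRing C] [CommRing D] [Algebra S C]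
    [Algebra D C] (hfin : Module.Finite D C)
    (q : Ideal S) (z : Ideal C) [z.IsPrime] (y : Ideal D) [y.IsPrime] [hzq : z.LiesOver q]
    (h3 : ∀ (z₁ : Ideal C) [z₁.IsPrime], z₁.LiesOver y → z₁ = z) (u : S) (hu : u ∉ q) :
    ∃ d : D, d ∉ y ∧ algebraMap S C u ∣ algebraMap D C d := by
  haveI := hfin
  haveI : Algebra.IsIntegral D C := Algebra.IsIntegral.of_finite D C
  by_contra hcon
  have hle : (Ideal.span {algebraMap S C u}).comap (algebraMap D C) ≤ y := by
    intro d hd
    by_contra hdy
    exact hcon ⟨d, hdy, Ideal.mem_span_singleton.mp hd⟩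
  obtain ⟨Q, hQ, hQp, hQy⟩ :=
    Ideal.exists_ideal_over_prime_of_isIntegral y (Ideal.span {algebraMap S C u}) hle
  haveI := hQp
  have hQz : Q = z := h3 Q ⟨hQy.symm⟩
  apply hu
  rw [hzq.over, Ideal.under_def, Ideal.mem_comap, ← hQz]
  exact hQ (Ideal.subset_span (Set.mem_singleton _))

/-- the structures on the localizations and the localized devissage, for given elements -/
theorem shrink_core
    (R S : Type u) [CommRing R] [CommRing S] [Algebra R S] [Algebra.FiniteType R S]
    (N : Type u) [AddCommGroup N] [Module S N] [Module R N] [IsScalarTower R S N] [Module.Finite S N]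
    (p : Ideal R) [p.IsPrime] (q : Ideal S) [q.IsPrime] [hqp : q.LiesOver p]
    (C D G : Type u) [CommRing C] [CommRing D] [Algebra S C] [Algebra R C] [IsScalarTower R S C]
    [Algebra R D] [Algebra D C] [IsScalarTower R D C] [AddCommGroup G] [Module C G] [Module S G]
    [IsScalarTower S C G] (n : ℕ)
    (h : FlatCA.IsOneStepDevissage R S N p C D G n)
    (z : Ideal C) [z.IsPrime] (y : Ideal D) [y.IsPrime] [hzq : z.LiesOver q] [hzy : z.LiesOver y]
    [hyp : y.LiesOver p]
    (h1 : ∃ (ξ : PrimeSpectrum (p.Fiber S)) (hξ : ξ ∈ Module.support (p.Fiber S) (FlatCA.fiberMod p S N)),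
      ξ.asIdeal = FlatCA.fiberIdeal p q ∧
      FlatMor.localDim (Module.support (p.Fiber S) (FlatCA.fiberMod p S N)) ⟨ξ, hξ⟩ = n)
    (h3 : ∀ (z₁ : Ideal C) [z₁.IsPrime], z₁.LiesOver y → z₁ = z)
    (h4 : FlatCA.PurelyTranscendental p y)
    (g : R) (hX : S) (hZ : C) (hY : D) (hg : g ∉ p) (hhX : hX ∉ q) (hhZ : hZ ∉ z) (hhY : hY ∉ y)
    (hgX : algebraMap R S g ∣ hX) (hgY : algebraMap R D g ∣ hY)
    (hZX : hZ = algebraMap S C hX) (hYZ : algebraMap D C hY ∣ hZ) (m : ℕ)
    (hZY : hZ ∣ algebraMap D C hY ^ m)
    (hcov : ∀ P : PrimeSpectrum R, g ∉ P.asIdeal →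
      ∃ Q : PrimeSpectrum D, hY ∉ Q.asIdeal ∧ Q.asIdeal.comap (algebraMap R D) = P.asIdeal) :
      ∃ (_ : Algebra (Localization.Away g) (Localization.Away hX)) (_ : IsScalarTower R (Localization.Away g) (Localization.Away hX))
        (_ : Algebra (Localization.Away g) (Localization.Away hZ)) (_ : IsScalarTower R (Localization.Away g) (Localization.Away hZ))
        (_ : Algebra (Localization.Away g) (Localization.Away hY)) (_ : IsScalarTower R (Localization.Away g) (Localization.Away hY))
        (_ : Algebra (Localization.Away hX) (Localization.Away hZ)) (_ : IsScalarTower S (Localization.Away hX) (Localization.Away hZ))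
        (_ : IsScalarTower (Localization.Away g) (Localization.Away hX) (Localization.Away hZ))
        (_ : Algebra (Localization.Away hY) (Localization.Away hZ)) (_ : IsScalarTower D (Localization.Away hY) (Localization.Away hZ))
        (_ : IsScalarTower (Localization.Away g) (Localization.Away hY) (Localization.Away hZ))
        (_ : Module (Localization.Away g) (LocalizedModule (Submonoid.powers hX) N)) (_ : IsScalarTower (Localization.Away g) (Localization.Away hX) (LocalizedModule (Submonoid.powers hX) N))
        (_ : Module (Localization.Away hX) (LocalizedModule (Submonoid.powers hZ) G)) (_ : IsScalarTower (Localization.Away hX) (Localization.Away hZ) (LocalizedModule (Submonoid.powers hZ) G))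
        (_ : (Ideal.map (algebraMap R (Localization.Away g)) p).IsPrime) (_ : (Ideal.map (algebraMap D (Localization.Away hY)) y).IsPrime) (_ : (Ideal.map (algebraMap D (Localization.Away hY)) y).LiesOver (Ideal.map (algebraMap R (Localization.Away g)) p)),
        FlatCA.IsOneStepDevissage (Localization.Away g) (Localization.Away hX) (LocalizedModule (Submonoid.powers hX) N) (Ideal.map (algebraMap R (Localization.Away g)) p) (Localization.Away hZ) (Localization.Away hY) (LocalizedModule (Submonoid.powers hZ) G) n ∧
        (∃ (ξ : PrimeSpectrum ((Ideal.map (algebraMap R (Localization.Away g)) p).Fiber (Localization.Away hX)))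
            (hξ : ξ ∈ Module.support ((Ideal.map (algebraMap R (Localization.Away g)) p).Fiber (Localization.Away hX)) (FlatCA.fiberMod (Ideal.map (algebraMap R (Localization.Away g)) p) (Localization.Away hX) (LocalizedModule (Submonoid.powers hX) N))),
          ξ.asIdeal = FlatCA.fiberIdeal (Ideal.map (algebraMap R (Localization.Away g)) p) (Ideal.map (algebraMap S (Localization.Away hX)) q) ∧
          FlatMor.localDim (Module.support ((Ideal.map (algebraMap R (Localization.Away g)) p).Fiber (Localization.Away hX)) (FlatCA.fiberMod (Ideal.map (algebraMap R (Localization.Away g)) p) (Localization.Away hX) (LocalizedModule (Submonoid.powers hX) N))) ⟨ξ, hξ⟩ = n) ∧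
        (Ideal.map (algebraMap C (Localization.Away hZ)) z).LiesOver (Ideal.map (algebraMap S (Localization.Away hX)) q) ∧ (Ideal.map (algebraMap C (Localization.Away hZ)) z).LiesOver (Ideal.map (algebraMap D (Localization.Away hY)) y) ∧
        (∀ (z₂ : Ideal (Localization.Away hZ)) [z₂.IsPrime], z₂.LiesOver (Ideal.map (algebraMap D (Localization.Away hY)) y) → z₂ = Ideal.map (algebraMap C (Localization.Away hZ)) z) ∧
        FlatCA.PurelyTranscendental (Ideal.map (algebraMap R (Localization.Away g)) p) (Ideal.map (algebraMap D (Localization.Away hY)) y) := by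
  have hu1 : IsUnit (algebraMap R (Localization.Away hX) g) := isUnit_of_dvd_away g hX hgX
  letI a1 : Algebra (Localization.Away g) (Localization.Away hX) :=
    (IsLocalization.Away.lift g hu1).toAlgebra
  haveI t1 : IsScalarTower R (Localization.Away g) (Localization.Away hX) :=
    IsScalarTower.of_algebraMap_eq fun r => (IsLocalization.Away.lift_eq g hu1 r).symm
  have hgZ : algebraMap R C g ∣ hZ := by
    rw [hZX, IsScalarTower.algebraMap_apply R S C]
    exact map_dvd _ hgX
  have hu2 : IsUnit (algebraMap R (Localization.Away hZ) g) := isUnit_of_dvd_away g hZ hgZ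
  letI a2 : Algebra (Localization.Away g) (Localization.Away hZ) :=
    (IsLocalization.Away.lift g hu2).toAlgebra
  haveI t2 : IsScalarTower R (Localization.Away g) (Localization.Away hZ) :=
    IsScalarTower.of_algebraMap_eq fun r => (IsLocalization.Away.lift_eq g hu2 r).symm
  have hu3 : IsUnit (algebraMap R (Localization.Away hY) g) := isUnit_of_dvd_away g hY hgY
  letI a3 : Algebra (Localization.Away g) (Localization.Away hY) :=
    (IsLocalization.Away.lift g hu3).toAlgebra
  haveI t3 : IsScalarTower R (Localization.Away g) (Localization.Away hY) :=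
    IsScalarTower.of_algebraMap_eq fun r => (IsLocalization.Away.lift_eq g hu3 r).symm
  have hu4 : IsUnit (algebraMap S (Localization.Away hZ) hX) :=
    isUnit_of_dvd_away hX hZ (by rw [hZX])
  letI a4 : Algebra (Localization.Away hX) (Localization.Away hZ) :=
    (IsLocalization.Away.lift hX hu4).toAlgebra
  haveI t4 : IsScalarTower S (Localization.Away hX) (Localization.Away hZ) :=
    IsScalarTower.of_algebraMap_eq fun r => (IsLocalization.Away.lift_eq hX hu4 r).symm
  haveI t4' : IsScalarTower R (Localization.Away hX) (Localization.Away hZ) :=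
    tower_of_tower R S (Localization.Away hX) (Localization.Away hZ)
  haveI t5 : IsScalarTower (Localization.Away g) (Localization.Away hX) (Localization.Away hZ) :=
    tower_of_away R (Localization.Away g) (Localization.Away hX) (Localization.Away hZ) g
  have hu5 : IsUnit (algebraMap D (Localization.Away hZ) hY) := isUnit_of_dvd_away hY hZ hYZ
  letI a5 : Algebra (Localization.Away hY) (Localization.Away hZ) :=
    (IsLocalization.Away.lift hY hu5).toAlgebra
  haveI t6 : IsScalarTower D (Localization.Away hY) (Localization.Away hZ) :=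
    IsScalarTower.of_algebraMap_eq fun r => (IsLocalization.Away.lift_eq hY hu5 r).symm
  haveI t6' : IsScalarTower R (Localization.Away hY) (Localization.Away hZ) :=
    tower_of_tower R D (Localization.Away hY) (Localization.Away hZ)
  haveI t7 : IsScalarTower (Localization.Away g) (Localization.Away hY) (Localization.Away hZ) :=
    tower_of_away R (Localization.Away g) (Localization.Away hY) (Localization.Away hZ) g
  letI m1 : Module (Localization.Away g) (LocalizedModule (Submonoid.powers hX) N) :=
    Module.compHom _ (algebraMap (Localization.Away g) (Localization.Away hX))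
  haveI t8 : IsScalarTower (Localization.Away g) (Localization.Away hX)
      (LocalizedModule (Submonoid.powers hX) N) := ⟨fun r s x => by
    change (r • s) • x = algebraMap (Localization.Away g) (Localization.Away hX) r • (s • x)
    rw [Algebra.smul_def, mul_smul]⟩
  letI m2 : Module (Localization.Away hX) (LocalizedModule (Submonoid.powers hZ) G) :=
    Module.compHom _ (algebraMap (Localization.Away hX) (Localization.Away hZ))
  haveI t9 : IsScalarTower (Localization.Away hX) (Localization.Away hZ)
      (LocalizedModule (Submonoid.powers hZ) G) := ⟨fun r s x => by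
    change (r • s) • x = algebraMap (Localization.Away hX) (Localization.Away hZ) r • (s • x)
    rw [Algebra.smul_def, mul_smul]⟩
  have hsurj : Function.Surjective (PrimeSpectrum.comap
      (algebraMap (Localization.Away g) (Localization.Away hY))) :=
    comap_surjective_of_cover R D (Localization.Away g) (Localization.Away hY) g hY hcov
  obtain ⟨i1, i2, i3, rest⟩ := loc_main R S N p q C D G n h z y h1 h3 h4 g hX hZ hY hg hhX hhZ hhY
    hZX hYZ m hZY (Localization.Away g) (Localization.Away hX) (Localization.Away hZ)
    (Localization.Away hY) (LocalizedModule (Submonoid.powers hX) N)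
    (LocalizedModule.mkLinearMap (Submonoid.powers hX) N)
    (LocalizedModule (Submonoid.powers hZ) G)
    (LocalizedModule.mkLinearMap (Submonoid.powers hZ) G) hsurj
  exact ⟨a1, t1, a2, t2, a3, t3, a4, t4, t5, a5, t6, t7, m1, t8, m2, t9, i1, i2, i3, rest⟩

/-- **Standard shrinking of a one-step devissage at a point.** -/
theorem shrink
    (R S : Type u) [CommRing R] [CommRing S] [Algebra R S] [Algebra.FiniteType R S]
    (N : Type u) [AddCommGroup N] [Module S N] [Module R N] [IsScalarTower R S N] [Module.Finite S N]
    (p : Ideal R) [p.IsPrime] (q : Ideal S) [q.IsPrime] [hqp : q.LiesOver p]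
    (C D G : Type u) [CommRing C] [CommRing D] [Algebra S C] [Algebra R C] [IsScalarTower R S C]
    [Algebra R D] [Algebra D C] [IsScalarTower R D C] [AddCommGroup G] [Module C G] [Module S G]
    [IsScalarTower S C G] (n : ℕ)
    (h : FlatCA.IsOneStepDevissage R S N p C D G n)
    (z : Ideal C) [z.IsPrime] (y : Ideal D) [y.IsPrime] [hzq : z.LiesOver q] [hzy : z.LiesOver y]
    [hyp : y.LiesOver p]
    (h1 : ∃ (ξ : PrimeSpectrum (p.Fiber S)) (hξ : ξ ∈ Module.support (p.Fiber S) (FlatCA.fiberMod p S N)),
      ξ.asIdeal = FlatCA.fiberIdeal p q ∧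
      FlatMor.localDim (Module.support (p.Fiber S) (FlatCA.fiberMod p S N)) ⟨ξ, hξ⟩ = n)
    (h3 : ∀ (z₁ : Ideal C) [z₁.IsPrime], z₁.LiesOver y → z₁ = z)
    (h4 : FlatCA.PurelyTranscendental p y)
    (u : S) (hu : u ∉ q) (w : D) (hw : w ∉ y) (hdvd : algebraMap S C u ∣ algebraMap D C w) :
    ∃ (g : R) (hX : S) (hZ : C), g ∉ p ∧ hX ∉ q ∧ hZ ∉ z ∧ w * algebraMap R D g ∉ y ∧
      IsUnit (algebraMap S (Localization.Away hX) u) ∧
      ∃ (_ : Algebra (Localization.Away g) (Localization.Away hX)) (_ : IsScalarTower R (Localization.Away g) (Localization.Away hX))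
        (_ : Algebra (Localization.Away g) (Localization.Away hZ)) (_ : IsScalarTower R (Localization.Away g) (Localization.Away hZ))
        (_ : Algebra (Localization.Away g) (Localization.Away (w * algebraMap R D g))) (_ : IsScalarTower R (Localization.Away g) (Localization.Away (w * algebraMap R D g)))
        (_ : Algebra (Localization.Away hX) (Localization.Away hZ)) (_ : IsScalarTower S (Localization.Away hX) (Localization.Away hZ))
        (_ : IsScalarTower (Localization.Away g) (Localization.Away hX) (Localization.Away hZ))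
        (_ : Algebra (Localization.Away (w * algebraMap R D g)) (Localization.Away hZ)) (_ : IsScalarTower D (Localization.Away (w * algebraMap R D g)) (Localization.Away hZ))
        (_ : IsScalarTower (Localization.Away g) (Localization.Away (w * algebraMap R D g)) (Localization.Away hZ))
        (_ : Module (Localization.Away g) (LocalizedModule (Submonoid.powers hX) N)) (_ : IsScalarTower (Localization.Away g) (Localization.Away hX) (LocalizedModule (Submonoid.powers hX) N))
        (_ : Module (Localization.Away hX) (LocalizedModule (Submonoid.powers hZ) G)) (_ : IsScalarTower (Localization.Away hX) (Localization.Away hZ) (LocalizedModule (Submonoid.powers hZ) G))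
        (_ : (Ideal.map (algebraMap R (Localization.Away g)) p).IsPrime) (_ : (Ideal.map (algebraMap D (Localization.Away (w * algebraMap R D g))) y).IsPrime) (_ : (Ideal.map (algebraMap D (Localization.Away (w * algebraMap R D g))) y).LiesOver (Ideal.map (algebraMap R (Localization.Away g)) p)),
        FlatCA.IsOneStepDevissage (Localization.Away g) (Localization.Away hX) (LocalizedModule (Submonoid.powers hX) N) (Ideal.map (algebraMap R (Localization.Away g)) p) (Localization.Away hZ) (Localization.Away (w * algebraMap R D g)) (LocalizedModule (Submonoid.powers hZ) G) n ∧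
        (∃ (ξ : PrimeSpectrum ((Ideal.map (algebraMap R (Localization.Away g)) p).Fiber (Localization.Away hX)))
            (hξ : ξ ∈ Module.support ((Ideal.map (algebraMap R (Localization.Away g)) p).Fiber (Localization.Away hX)) (FlatCA.fiberMod (Ideal.map (algebraMap R (Localization.Away g)) p) (Localization.Away hX) (LocalizedModule (Submonoid.powers hX) N))),
          ξ.asIdeal = FlatCA.fiberIdeal (Ideal.map (algebraMap R (Localization.Away g)) p) (Ideal.map (algebraMap S (Localization.Away hX)) q) ∧
          FlatMor.localDim (Module.support ((Ideal.map (algebraMap R (Localization.Away g)) p).Fiber (Localization.Away hX)) (FlatCA.fiberMod (Ideal.map (algebraMap R (Localization.Away g)) p) (Localization.Away hX) (LocalizedModule (Submonoid.powers hX) N))) ⟨ξ, hξ⟩ = n) ∧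
        (Ideal.map (algebraMap C (Localization.Away hZ)) z).LiesOver (Ideal.map (algebraMap S (Localization.Away hX)) q) ∧ (Ideal.map (algebraMap C (Localization.Away hZ)) z).LiesOver (Ideal.map (algebraMap D (Localization.Away (w * algebraMap R D g))) y) ∧
        (∀ (z₂ : Ideal (Localization.Away hZ)) [z₂.IsPrime], z₂.LiesOver (Ideal.map (algebraMap D (Localization.Away (w * algebraMap R D g))) y) → z₂ = Ideal.map (algebraMap C (Localization.Away hZ)) z) ∧
        FlatCA.PurelyTranscendental (Ideal.map (algebraMap R (Localization.Away g)) p) (Ideal.map (algebraMap D (Localization.Away (w * algebraMap R D g))) y) := by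
  obtain ⟨g, hg, hcov⟩ := exists_g R D n h.2.2.2.2.2.1 p y w hw
  obtain ⟨s₀, hs₀⟩ := h.2.1 (algebraMap D C (w * algebraMap R D g))
  have hhY : w * algebraMap R D g ∉ y := by
    intro hmem
    rcases Ideal.IsPrime.mem_or_mem inferInstance hmem with h' | h'
    · exact hw h'
    · apply hg
      rw [hyp.over]
      exact h'
  have hs₀q : s₀ ∉ q := by
    intro hmem
    have h5 : algebraMap S C s₀ ∈ z := by
      have h' : s₀ ∈ z.comap (algebraMap S C) := by
        rw [← Ideal.under_def, ← hzq.over]
        exact hmem
      exact h'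
    rw [hs₀] at h5
    apply hhY
    rw [hzy.over]
    exact h5
  have hgq : algebraMap R S g ∉ q := by
    intro hmem
    apply hg
    rw [hqp.over]
    exact hmem
  have hhX : u * s₀ * algebraMap R S g ∉ q := by
    intro hmem
    rcases Ideal.IsPrime.mem_or_mem inferInstance hmem with h' | h'
    · rcases Ideal.IsPrime.mem_or_mem inferInstance h' with h'' | h''
      · exact hu h''
      · exact hs₀q h''
    · exact hgq h'
  have hhZ : algebraMap S C (u * s₀ * algebraMap R S g) ∉ z := by
    intro hmem
    apply hhX
    rw [hzq.over]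
    exact hmem
  have hcov' : ∀ P : PrimeSpectrum R, g ∉ P.asIdeal →
      ∃ Q : PrimeSpectrum D, w * algebraMap R D g ∉ Q.asIdeal ∧
        Q.asIdeal.comap (algebraMap R D) = P.asIdeal := by
    intro P hP
    obtain ⟨Q, hQw, hQP⟩ := hcov P hP
    refine ⟨Q, fun hmem => ?_, hQP⟩
    rcases Q.2.mem_or_mem hmem with h' | h'
    · exact hQw h'
    · apply hP
      rw [← hQP]
      exact h'
  have e1 : algebraMap D C (w * algebraMap R D g) = algebraMap D C w * algebraMap R C g := by
    rw [map_mul, ← IsScalarTower.algebraMap_apply R D C]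
  have e2 : algebraMap S C (u * s₀ * algebraMap R S g) =
      algebraMap S C u * (algebraMap D C w * algebraMap R C g) * algebraMap R C g := by
    rw [map_mul, map_mul, hs₀, e1, ← IsScalarTower.algebraMap_apply R S C]
  have hYZ : algebraMap D C (w * algebraMap R D g) ∣
      algebraMap S C (u * s₀ * algebraMap R S g) := by
    rw [e2, e1]
    exact ⟨algebraMap S C u * algebraMap R C g, by ring⟩
  have hZY : algebraMap S C (u * s₀ * algebraMap R S g) ∣
      algebraMap D C (w * algebraMap R D g) ^ 2 := by
    obtain ⟨c, hc⟩ := hdvd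
    rw [e2, e1, hc]
    exact ⟨c, by ring⟩
  refine ⟨g, u * s₀ * algebraMap R S g, algebraMap S C (u * s₀ * algebraMap R S g), hg, hhX, hhZ,
    hhY, ?_, ?_⟩
  · exact isUnit_of_dvd_unit (map_dvd (algebraMap S (Localization.Away (u * s₀ * algebraMap R S g)))
      (⟨s₀ * algebraMap R S g, by ring⟩ : u ∣ u * s₀ * algebraMap R S g))
      (IsLocalization.Away.algebraMap_isUnit _)
  · exact shrink_core R S N p q C D G n h z y h1 h3 h4 g (u * s₀ * algebraMap R S g)
      (algebraMap S C (u * s₀ * algebraMap R S g)) (w * algebraMap R D g) hg hhX hhZ hhY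
      (Dvd.intro_left (u * s₀) rfl) (Dvd.intro_left w rfl) rfl hYZ 2 hZY hcov'

end Groth.Agent.Helper7.OneStep
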